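import Cfsg.Agent.Lib.Schur.PcBase
import Cfsg.Agent.Lib.TC.D.HNL.Simple
import Cfsg.Agent.Lib.TC.D.HNO.PtOk
import Cfsg.Agent.Lib.TC.D.HNC.Ord

/-!
# The action of the Harada-Norton group on the 1539000 cosets, as a model for tail certificates
-/

set_option autoImplicit false
set_option maxRecDepth 100000

namespace Cfsg.Agent.Lib.Schur.HN.Model

open Cfsg.Agent.Lib.TC.Core Cfsg.Agent.Lib.TC.Enc Cfsg.Agent.Lib.TC.Pres Cfsg.Agent.Lib.TC.Perm
  Cfsg.Agent.Lib.TC.Main Cfsg.Agent.Lib.TC.Chain Cfsg.Agent.Lib.TC.Chain.PermLev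
  Cfsg.Agent.Lib.TC.Iso
  Cfsg.Agent.Lib.TC.G.HN Cfsg.Agent.Lib.TC.HNA Cfsg.Agent.Lib.TC.D.HNO.Tab
  Cfsg.Agent.Lib.TC.D.HND.Sys Cfsg.Agent.Lib.TC.D.HNL.Defs Cfsg.Agent.Lib.TC.D.HNL.Lam
  Cfsg.Agent.Lib.TC.D.HNL.Kt Cfsg.Agent.Lib.TC.D.HNC.Ord Cfsg.Agent.Lib.TC.D.HNL.Main
  Cfsg.Agent.Lib.TC.D.HNL.Simple Cfsg.Agent.Lib.TC.D.HNC
open Cfsg.Agent.Lib.Schur.PcBase

theorem hgood : pt.Good rels := Cfsg.Agent.Lib.TC.D.HNO.PtOk.hgood

theorem card_G : Nat.card (PresentedGroup Rel) = 273030912000000 := by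
  have hk : pt.k = K.k := by decide
  obtain ⟨φ, hφ⟩ := exists_hom valid hk (fun _ => rfl) hgood hR
  have hval : ∀ l : List Nat, (∀ z ∈ l, z < pt.k) → ∀ i : Fin pt.n, (φ (prodA e l) i).1 = pt.val l i.1 :=
    fun l hl i => phi_prodA_apply hk hgood φ hφ l (fun z hz => by rw [← hk]; exact hl z hz) i
  have hK := card_KK (hcc φ hval card_KK3)
  have hfK : Finite KK := Nat.finite_of_card_ne_zero hK.1
  have hidx := main_index hgood card_KK3 card_KK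
  have hS : ∀ lv ∈ Cfsg.Agent.Lib.TC.D.HNL.C0.cl.levs, ∀ w ∈ lv.words, prodA e w ∈ KK := fun lv hlv w hw =>
    word_mem w (stOK_wLt (cl_words Cfsg.Agent.Lib.TC.D.HNL.C0.hchk lv hlv w hw))
  have hlow := prodM_le_card hval KK Cfsg.Agent.Lib.TC.D.HNL.C0.cl.levs Cfsg.Agent.Lib.TC.D.HNL.C0.hlev hS
  rw [hprod0] at hlow
  have hcK : Nat.card KK = 177408000 := le_antisymm hK.2 hlow
  have h4 := Subgroup.index_mul_card KK
  rw [hidx, hcK] at h4
  rw [← h4]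

/-- The model. -/
theorem model : ∃ φ : PresentedGroup Rel →* Equiv.Perm (Fin pt.n),
    Model pt e 7 (allBase [0] Cfsg.Agent.Lib.TC.D.HNL.C0.cl.levs) φ := by
  have hk : pt.k = K.k := by decide
  obtain ⟨φ, hφ⟩ := exists_hom valid hk (fun _ => rfl) hgood hR
  have hval : ∀ l : List Nat, (∀ z ∈ l, z < pt.k) → ∀ i : Fin pt.n, (φ (prodA e l) i).1 = pt.val l i.1 :=
    fun l hl i => phi_prodA_apply hk hgood φ hφ l (fun z hz => by rw [← hk]; exact hl z hz) i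
  have hcG := card_G
  have hG0 : Nat.card (PresentedGroup Rel) ≠ 0 := by
    rw [hcG]
    norm_num
  have hfin : Finite (PresentedGroup Rel) := Nat.finite_of_card_ne_zero hG0
  have htr : ∀ i : Fin pt.n, ∃ g, φ g 0 = i := by
    intro i
    obtain ⟨l, hl, hv⟩ := hgood.trans i.1 i.2
    refine ⟨prodA e l, Fin.ext ?_⟩
    rw [hval l hl]
    exact hv
  have hr := card_range_ge hval htr Cfsg.Agent.Lib.TC.D.HNL.C0.cl.levs hlev0
  rw [hprod0] at hr
  have hN : (273030912000000 : Nat) ≤ pt.n * 177408000 := by decide +kernel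
  obtain ⟨_, hinj⟩ := card_eq_of_bounds φ hG0 (le_of_eq hcG) (le_trans hN hr)
  have hle : Nat.card φ.range ≤ pt.n * prodM Cfsg.Agent.Lib.TC.D.HNL.C0.cl.levs := by
    have h5 := Nat.card_le_card_of_surjective _ φ.rangeRestrict_surjective
    rw [hcG] at h5
    rw [hprod0]
    exact le_trans h5 hN
  refine ⟨φ, ⟨fun l hl i => hval l hl i, hinj, ?_, by decide +kernel⟩⟩
  intro g hg hfix
  exact eq_one_of_fix_base (E := e) hval Cfsg.Agent.Lib.TC.D.HNL.C0.cl.levs hlev0 hfin hle (by decide) htr g hg hfix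

end Cfsg.Agent.Lib.Schur.HN.Model
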