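import Cfsg.Agent.Lib.Schur.PcBase
import Cfsg.Agent.Lib.TC.D.HNO.Tab
import Cfsg.Agent.Lib.TC.D.HNL.C0

/-!
# A tail certificate for a Sylow subgroup of the Harada-Norton group, with words in the columns of a table
-/

set_option autoImplicit false
set_option maxRecDepth 100000
set_option maxHeartbeats 0

namespace Cfsg.Agent.Lib.Schur.HN.P2

open Cfsg.Agent.Lib.Schur.PcMain Cfsg.Agent.Lib.Schur.PcBase

def rule_0 : List (List ℕ) := [[4, 6, 8, 9, 10, 11, 13]]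

def rule_1 : List (List ℕ) := [[1, 4], [6, 7, 8, 9, 10, 11]]

def rule_2 : List (List ℕ) := [[2, 5], [2, 4, 5, 7, 8, 9, 10, 11, 12], [4, 5, 6, 8, 9, 11]]

def rule_3 : List (List ℕ) := [[3, 6], [3, 6, 7, 8, 9, 12], [3, 6, 8, 9], [11, 12]]

def rule_4 : List (List ℕ) := [[4, 9], [4, 10], [4, 7], [4, 11], [11]]

def rule_5 : List (List ℕ) := [[5, 8], [5, 7, 8, 12], [5, 8, 9, 10, 13], [5, 7, 8, 9, 10, 11, 12], [5, 9, 10, 12], [9, 10, 11, 12, 13]]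

def rule_6 : List (List ℕ) := [[6], [6, 10, 12], [6, 7, 8, 10, 11, 12], [6, 12], [6, 11], [6, 10, 12], []]

def rule_7 : List (List ℕ) := [[7, 9, 10, 11], [7, 9, 10, 11, 13], [7, 9, 10, 12, 13], [7, 11, 12, 13], [7, 12], [7, 12, 13], [7, 11, 12, 13], []]

def rule_8 : List (List ℕ) := [[8, 9, 11, 12], [8, 9], [8, 9, 12, 13], [8, 13], [8, 11], [8, 11], [8, 11, 12], [8, 13], []]

def rule_9 : List (List ℕ) := [[9, 13], [9, 11, 12], [9, 11, 12], [9, 11], [9, 12], [9, 12, 13], [9, 12], [9, 13], [9], []]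

def rule_10 : List (List ℕ) := [[10, 11, 12, 13], [10, 12, 13], [10, 13], [10, 12, 13], [10, 12, 13], [10, 12], [10], [10, 13], [10, 13], [10], []]

def rule_11 : List (List ℕ) := [[11, 12], [11, 12, 13], [11, 12], [11], [11], [11, 13], [11], [11], [11], [11], [11], []]

def rule_12 : List (List ℕ) := [[12], [12], [12, 13], [12], [12], [12], [12], [12], [12], [12], [12], [12], []]

def rule_13 : List (List ℕ) := [[13], [13], [13], [13], [13], [13], [13], [13], [13], [13], [13], [13], [13], []]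

def item_0 : List (List ℕ) × List (List ℕ) := ([[0], [1], [2], [3], [4], [5], [6], [7], [8], [9], [10], [11], [12], [13]], [[1, 6, 7, 9, 10, 12], [0, 3, 6, 7, 8, 9, 10, 13], [0, 1, 2, 3, 4, 7, 9, 11, 12], [0, 1, 5, 6, 8, 9, 10, 12, 13], [4, 6, 7, 8, 10, 12], [5, 6, 7, 12], [4, 7, 8, 10, 13], [8, 9, 11, 13], [7, 8, 9, 10, 11], [10, 11, 12], [9, 10], [11, 13], [12, 13], [13]])

def item_1 : List (List ℕ) × List (List ℕ) := ([[0, 1], [1, 2], [3], [4], [5], [6], [7], [8], [9], [10], [11], [12], [13]], [[1, 2, 4, 5, 9], [0, 2, 5, 6, 7, 10, 11, 12, 13], [0, 1, 4, 5, 6, 8, 9, 11, 13], [0, 1, 4, 5, 8, 11], [0, 2, 4, 6, 9, 10, 12], [3, 4, 7, 8, 9, 10, 13], [7, 9, 10], [8, 9, 11], [9, 11], [10, 12], [11, 13], [11, 12, 13], [13]])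

def item_2 : List (List ℕ) × List (List ℕ) := ([[0], [1], [3], [4], [5], [6], [7], [8], [9], [10], [11], [12], [13]], [[0, 9, 11, 13], [3, 5, 7, 10, 13], [3, 4, 6, 8, 9, 10, 11, 12], [6, 8, 9, 12], [1, 3, 8, 11, 12, 13], [6, 11, 12], [4, 7, 8, 10, 11, 13], [4, 6, 9, 12, 13], [9, 11, 13], [10, 11, 13], [11], [12], [12, 13]])

def item_3 : List (List ℕ) × List (List ℕ) := ([[0, 1, 3], [1, 2, 4], [3, 6], [4, 5], [7], [8], [9], [10], [11], [12], [13]], [[0, 1, 3, 4, 5, 8, 9, 12, 13], [1, 2, 5, 7, 13], [1, 2, 3, 5, 6, 7, 8, 9, 12], [4, 5], [7, 8, 9, 12, 13], [1, 2, 4, 7, 9, 10, 11, 12, 13], [1, 2, 4, 9, 10, 13], [4, 5, 7, 10, 11], [8, 9, 11, 12, 13], [7, 8, 9, 11], [13]])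

def ov_0 : List ℕ × ℕ × ℕ × List (ℕ × ℤ) := ([2, 1, 0], 0, 1, [(4000, 1), (4002, 1), (5000, 1), (5001, -1), (5004, 1), (7000, 1), (7004, 1), (7005, 1), (8000, 1), (8005, -1), (9000, 1), (9005, -1), (9007, 2), (9009, 2), (10000, 1), (10007, 1), (10009, 2), (10010, 1), (11000, 1), (11004, -1), (11005, 1), (11008, -1), (11009, 3), (11010, 2), (11011, 1), (12000, 1), (12004, 1), (12008, -1), (12009, 2), (12011, 2), (12012, 2), (13004, 1), (13007, 1), (13008, 2), (13009, 2), (13010, 4), (13012, 2), (13013, 3)])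

def ov_1 : List ℕ × ℕ × ℕ × List (ℕ × ℤ) := ([3, 2, 1], 0, 1, [(4003, 1), (5003, 1), (6001, 1), (6002, -1), (7002, -1), (7003, 1), (7006, 1), (8001, 1), (8002, -1), (8003, 1), (8004, -1), (8005, -1), (8007, -1), (9001, 1), (9002, -1), (9003, 1), (9007, -1), (9008, 1), (10003, 1), (10008, 2), (10009, 2), (11003, 1), (11004, -1), (11005, 1), (11006, 2), (11008, 3), (11009, 3), (11011, 1), (12002, -1), (12003, 1), (12004, -1), (12005, -1), (12006, 1), (12007, -1), (12008, 1), (12009, -2), (12010, -2), (12011, 3), (12012, 1), (13004, -1), (13005, -1), (13007, 1), (13008, 3), (13009, 2), (13010, 2), (13011, 5), (13012, 6), (13013, 1)])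

def ov_2 : List ℕ × ℕ × ℕ × List (ℕ × ℤ) := ([4, 1, 0], 0, 1, [(9001, -1), (9004, -1), (10000, 1), (10004, -1), (10009, -1), (11004, -1), (12004, -1), (12010, -1), (12012, -1), (13011, -1), (13012, -1)])

def ov_3 : List ℕ × ℕ × ℕ × List (ℕ × ℤ) := ([4, 2, 0], 0, 1, [(5004, 1), (7000, 1), (7005, -1), (9002, -1), (9005, -1), (9009, 1), (10007, 1), (10009, 2), (10010, 1), (11005, -1), (12005, -1), (12007, 1), (12009, 1), (12010, 1), (12011, 1), (12012, -1), (13010, 1), (13011, 1), (13012, -1), (13013, -1)])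

def ov_4 : List ℕ × ℕ × ℕ × List (ℕ × ℤ) := ([4, 3, 0], 0, 1, [(6004, 1), (9003, -1), (9006, -1), (11000, 1)])

def ov_5 : List ℕ × ℕ × ℕ × List (ℕ × ℤ) := ([4, 3, 2], 0, 1, [(6004, 1), (7003, -1), (7006, -1), (8004, 1), (8007, 1), (9004, 1), (9007, 1), (11002, 1), (11007, -1), (11009, -1), (12006, -1), (12007, 1), (12011, 1), (13006, -1), (13009, 1), (13012, -1)])

def ov_6 : List ℕ × ℕ × ℕ × List (ℕ × ℤ) := ([5, 2, 0], 0, 1, [(8000, 1), (8002, -1), (9000, 1), (9008, 1), (10000, 1), (10005, -1), (10008, 1), (10009, 1), (11008, 2), (11009, 1), (11010, -1), (11011, 1), (12005, -1), (12008, 2), (12009, 1), (12010, -1), (12011, 1), (13000, 1), (13005, -1), (13009, 2), (13010, -1), (13011, 3), (13012, 1), (13013, 1)])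

def ov_7 : List ℕ × ℕ × ℕ × List (ℕ × ℤ) := ([5, 3, 1], 0, 1, [(6005, 1), (7001, 1), (7003, -1), (7005, 1), (8001, 1), (8003, -1), (8005, 1), (9001, 1), (9005, 1), (9006, -1), (9008, -1), (9009, 1), (10001, 1), (10006, -1), (10007, 1), (10009, 1), (10010, 1), (11001, 1), (11007, 1), (11008, 1), (11009, 2), (11010, 2), (11011, 1), (12001, 1), (12003, -1), (12005, 1), (12006, -1), (12007, 1), (12008, 1), (12009, 3), (12011, 2), (12012, 2), (13008, 2), (13009, 2), (13010, 1), (13011, 2), (13012, 3), (13013, 2)])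

def ov_8 : List ℕ × ℕ × ℕ × List (ℕ × ℤ) := ([5, 3, 2], 0, 1, [(6005, 1), (7002, 1), (7006, -1), (8002, 1), (8003, -1), (8005, 1), (9002, 1), (9003, -1), (9005, 1), (9008, 1), (9009, 1), (10002, 1), (10003, -1), (10008, 2), (10009, 3), (10010, 1), (11002, 1), (11007, 1), (11009, 3), (11010, 2), (12002, 1), (12011, 1), (12012, 2), (13003, -1), (13009, 2), (13010, 2), (13011, 3), (13012, 3), (13013, 2)])

def ov_9 : List ℕ × ℕ × ℕ × List (ℕ × ℤ) := ([5, 4, 0], 0, 1, [(8004, -1), (9000, 1), (9005, 1), (10000, 1), (10008, -1), (10009, -1), (11009, -1), (12000, 1), (12010, 1), (12012, 1), (13008, 1), (13011, -1), (13013, 1)])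

def ov_10 : List ℕ × ℕ × ℕ × List (ℕ × ℤ) := ([5, 4, 1], 0, 1, [(7004, -1), (8004, -1), (9001, 1), (9007, -1), (9008, -1), (10001, 1), (10005, 1), (10009, 1), (12001, 1), (12004, -1), (12008, 1), (12012, 1), (13008, 1), (13010, -2), (13011, -1), (13012, 2)])

def ov_11 : List ℕ × ℕ × ℕ × List (ℕ × ℤ) := ([6, 1, 0], 0, 1, [(6004, -1), (10000, 1), (10004, -1), (11010, -1), (12000, 1), (12004, -1)])

def ov_12 : List ℕ × ℕ × ℕ × List (ℕ × ℤ) := ([6, 3, 0], 0, 1, [(12000, 1), (12006, -1)])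

def ov_13 : List ℕ × ℕ × ℕ × List (ℕ × ℤ) := ([6, 3, 2], 0, 1, [(7003, -1), (7006, -1), (8003, -1), (8007, 1), (9006, 1), (9007, 1), (9008, 1), (10003, -1), (10006, -1), (10008, -1), (10009, -1), (11003, -1), (11007, 1), (11008, -1), (11009, 1), (11011, -1), (12002, 1), (12003, -1), (12007, -1), (12008, -1), (12009, 1), (12011, -3), (12012, -1), (13006, -1), (13008, -2), (13010, -1), (13011, -2), (13012, -2), (13013, -1)])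

def ov_14 : List ℕ × ℕ × ℕ × List (ℕ × ℤ) := ([6, 4, 0], 0, 1, [(9006, 1), (11000, 1), (11009, -1), (12011, 1), (12012, 1)])

def ov_15 : List ℕ × ℕ × ℕ × List (ℕ × ℤ) := ([6, 4, 1], 0, 1, [(10004, -1), (10006, 1), (11001, 1), (11010, -2), (12004, -1), (12011, 1), (13010, -1), (13012, -1)])

def ov_16 : List ℕ × ℕ × ℕ × List (ℕ × ℤ) := ([6, 4, 2], 0, 1, [(7004, -1), (7006, 1), (8004, -1), (8007, -1), (10004, -1), (10007, -1), (11002, 1), (11004, -1), (11007, -1), (11010, 1), (12004, -1), (13008, 1), (13011, 1), (13012, 1), (13013, -1)])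

def ov_17 : List ℕ × ℕ × ℕ × List (ℕ × ℤ) := ([6, 5, 0], 0, 1, [(8006, 1), (10000, 1), (10008, -1), (11010, 1), (11011, 1), (12000, 1), (12008, -1), (12010, 1), (12011, 1), (12012, 1)])

def ov_18 : List ℕ × ℕ × ℕ × List (ℕ × ℤ) := ([6, 5, 1], 0, 1, [(7006, 1), (8006, 1), (10001, 1), (10005, -1), (11008, 1), (11011, 1), (12001, 1), (12005, -1), (12006, 1), (12007, -1), (12011, 1), (12012, 1), (13008, 1), (13010, 2), (13011, 1), (13012, 4), (13013, 1)])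

def ov_19 : List ℕ × ℕ × ℕ × List (ℕ × ℤ) := ([6, 5, 2], 0, 1, [(7005, -1), (8005, -1), (8006, 1), (8007, 1), (9006, 1), (9007, 1), (9008, 1), (10002, 1), (10005, -1), (10006, 1), (11005, -1), (11007, 1), (11008, 1), (11009, 1), (11010, 1), (12002, 1), (12005, -1), (12007, -1), (12009, 1), (12010, 1), (12011, -1), (13006, 1), (13007, 1), (13009, 1), (13010, 1), (13011, 1), (13012, -2), (13013, 1)])

def ov_20 : List ℕ × ℕ × ℕ × List (ℕ × ℤ) := ([7, 2, 0], 0, 1, [(7005, -1), (9000, 1), (9002, -1), (10000, 1), (10002, -1), (11002, -1), (11009, 1), (12000, 1), (12005, -1), (12009, -1), (12011, -1), (12012, -1), (13000, 1), (13009, -1), (13012, -1)])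

def ov_21 : List ℕ × ℕ × ℕ × List (ℕ × ℤ) := ([7, 3, 0], 0, 1, [(7006, -1), (9003, -1), (9006, -1), (10003, -1), (10006, -1), (11000, 1), (11003, -1), (11006, -1), (11009, -2), (11010, -1), (11011, -1), (12000, 1), (12009, -2), (12010, -1), (12011, -1), (12012, -1), (13000, 1), (13009, -2), (13010, -2), (13011, -2), (13012, -2), (13013, -1)])

def ov_22 : List ℕ × ℕ × ℕ × List (ℕ × ℤ) := ([7, 4, 2], 0, 1, [(9004, -1), (9007, -1), (10004, -1), (10007, -1), (12002, 1), (12004, -1), (12009, -1), (12012, -1), (13004, -1), (13010, -1), (13013, -1)])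

def ov_23 : List ℕ × ℕ × ℕ × List (ℕ × ℤ) := ([8, 2, 0], 0, 1, [(8005, -1), (9000, 1), (9002, -1), (11002, -1), (11009, 1), (11011, -1), (12000, 1), (12002, -1), (12011, -1), (12012, -1), (13000, 1), (13009, -1), (13011, -2), (13012, -2)])

def ov_24 : List ℕ × ℕ × ℕ × List (ℕ × ℤ) := ([8, 3, 0], 0, 1, [(8006, -1), (9003, -1), (9006, -1), (11003, -1), (11009, -1), (11011, -1), (12003, -1), (12006, -1), (12009, -1), (12012, -1), (13000, 1), (13006, -1), (13009, -1), (13011, -2), (13012, -1)])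

def ov_25 : List ℕ × ℕ × ℕ × List (ℕ × ℤ) := ([8, 4, 0], 0, 1, [(9004, -1), (9008, 1), (11000, 1), (11004, -1), (11009, -1), (12004, -1)])

def ov_26 : List ℕ × ℕ × ℕ × List (ℕ × ℤ) := ([8, 4, 1], 0, 1, [(9004, -1), (10008, 1), (10009, 1), (11001, 1), (11009, -1), (11010, -1), (12010, -1), (13009, 1), (13011, 1), (13012, 1), (13013, 1)])

def ov_27 : List ℕ × ℕ × ℕ × List (ℕ × ℤ) := ([8, 4, 3], 0, 1, [(11003, 1), (11008, 1), (13004, -1)])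

def ov_28 : List ℕ × ℕ × ℕ × List (ℕ × ℤ) := ([8, 5, 0], 0, 1, [(9005, -1), (9008, -1), (11000, 1), (11005, -1), (11009, -1), (12005, -1), (13011, -1), (13013, -1)])

def ov_29 : List ℕ × ℕ × ℕ × List (ℕ × ℤ) := ([8, 5, 2], 0, 1, [(9005, -1), (10008, 1), (10009, 1), (11002, 1), (11008, -1), (11009, -2), (11010, -1), (12005, -1), (12011, 1), (13005, -1), (13008, 1), (13011, 1)])

def ov_30 : List ℕ × ℕ × ℕ × List (ℕ × ℤ) := ([8, 6, 0], 0, 1, [(9006, -1), (11000, 1), (11006, -1), (11009, -1), (12000, 1), (12006, -1), (12009, -1), (12011, 1)])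

def ov_31 : List ℕ × ℕ × ℕ × List (ℕ × ℤ) := ([9, 3, 2], 0, 1, [(9006, -1), (9008, -1), (11002, 1), (11003, -1), (12003, -1), (12006, -1), (12011, 1)])

def ov_32 : List ℕ × ℕ × ℕ × List (ℕ × ℤ) := ([9, 4, 2], 0, 1, [(9007, -1), (11004, -1), (11007, -1), (12002, 1), (12004, -1), (12011, -1), (13011, -1)])

def ov_33 : List ℕ × ℕ × ℕ × List (ℕ × ℤ) := ([9, 5, 0], 0, 1, [(9008, -1), (12000, 1), (12008, -1), (13000, 1), (13005, -1), (13012, 1)])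

def ov_34 : List ℕ × ℕ × ℕ × List (ℕ × ℤ) := ([9, 6, 4], 0, 1, [(11009, 1), (12004, 1), (12006, -1)])

def ov_35 : List ℕ × ℕ × ℕ × List (ℕ × ℤ) := ([9, 7, 0], 0, 1, [(10009, 1), (11009, 1), (13000, 1), (13007, -1)])

def ov_36 : List ℕ × ℕ × ℕ × List (ℕ × ℤ) := ([10, 3, 0], 0, 1, [(10006, -1), (11003, -1), (11006, -1), (12000, 1), (12003, -1), (12011, -1), (13000, 1), (13003, -1), (13011, -1)])

def ov_37 : List ℕ × ℕ × ℕ × List (ℕ × ℤ) := ([10, 4, 0], 0, 1, [(10009, -1), (11004, -1), (11009, -1), (12000, 1), (12004, -1), (12011, -1), (13000, 1), (13004, -1), (13011, -1)])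

def ov_38 : List ℕ × ℕ × ℕ × List (ℕ × ℤ) := ([10, 4, 1], 0, 1, [(12001, 1), (12004, -1), (13001, 1), (13004, -1)])

def ov_39 : List ℕ × ℕ × ℕ × List (ℕ × ℤ) := ([10, 4, 2], 0, 1, [(10007, -1), (12002, 1), (12007, -1), (13002, 1), (13004, -1)])

def ov_40 : List ℕ × ℕ × ℕ × List (ℕ × ℤ) := ([10, 5, 1], 0, 1, [(10007, -1), (10008, -1), (12001, 1), (12005, -1), (12010, 1), (13005, -1), (13007, -1), (13013, -1)])

def ov_41 : List ℕ × ℕ × ℕ × List (ℕ × ℤ) := ([10, 6, 0], 0, 1, [(11006, -1), (12006, -1), (13006, -1)])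

def ov_42 : List ℕ × ℕ × ℕ × List (ℕ × ℤ) := ([10, 6, 5], 0, 1, [(12006, -1)])

def ov_43 : List ℕ × ℕ × ℕ × List (ℕ × ℤ) := ([10, 7, 1], 0, 1, [(10009, -1), (11010, 1), (12007, -1), (12009, -1), (12010, -1), (12011, -1), (13001, 1), (13007, -1), (13010, 1)])

def ov_44 : List ℕ × ℕ × ℕ × List (ℕ × ℤ) := ([10, 7, 2], 0, 1, [(10009, -1), (12010, 1), (13002, 1), (13007, -1), (13010, 1)])

def ov_45 : List ℕ × ℕ × ℕ × List (ℕ × ℤ) := ([10, 8, 3], 0, 1, [(12008, -1), (13003, 1), (13008, -1), (13010, 1)])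

def ov_46 : List ℕ × ℕ × ℕ × List (ℕ × ℤ) := ([10, 9, 6], 0, 1, [(12010, 1)])

def ov_47 : List ℕ × ℕ × ℕ × List (ℕ × ℤ) := ([10, 9, 8], 0, 1, [(13009, -1)])

def ov_48 : List ℕ × ℕ × ℕ × List (ℕ × ℤ) := ([11, 2, 0], 0, 1, [(11005, -1), (12000, 1), (12002, -1), (13005, -1), (13013, -1)])

def ov_49 : List ℕ × ℕ × ℕ × List (ℕ × ℤ) := ([11, 3, 0], 0, 1, [(11006, -1), (12003, -1), (12006, -1)])

def ov_50 : List ℕ × ℕ × ℕ × List (ℕ × ℤ) := ([11, 4, 2], 0, 1, [(11007, -1), (12004, -1), (12007, -1)])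

def ov_51 : List ℕ × ℕ × ℕ × List (ℕ × ℤ) := ([11, 5, 1], 0, 1, [(11007, -1), (11008, -1), (12005, -1), (12007, -1), (12008, -1), (12011, 1), (13001, 1), (13005, -1), (13012, -1)])

def ov_52 : List ℕ × ℕ × ℕ × List (ℕ × ℤ) := ([11, 6, 3], 0, 1, [(12011, 1)])

def ov_53 : List ℕ × ℕ × ℕ × List (ℕ × ℤ) := ([11, 8, 3], 0, 1, [(13011, 1)])

def ov_54 : List ℕ × ℕ × ℕ × List (ℕ × ℤ) := ([11, 9, 2], 0, 1, [(12009, -1)])

def ov_55 : List ℕ × ℕ × ℕ × List (ℕ × ℤ) := ([12, 1, 0], 0, 1, [(12004, -1)])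

def ov_56 : List ℕ × ℕ × ℕ × List (ℕ × ℤ) := ([12, 2, 0], 0, 1, [(12005, -1), (13000, 1), (13005, -1)])

def ov_57 : List ℕ × ℕ × ℕ × List (ℕ × ℤ) := ([12, 5, 0], 0, 1, [(12008, -1)])

def ov_58 : List ℕ × ℕ × ℕ × List (ℕ × ℤ) := ([12, 5, 1], 0, 1, [(12007, -1), (12008, -1)])

def ov_59 : List ℕ × ℕ × ℕ × List (ℕ × ℤ) := ([12, 7, 5], 0, 1, [(13012, 1)])

def ov_60 : List ℕ × ℕ × ℕ × List (ℕ × ℤ) := ([13, 1, 0], 0, 1, [(13004, -1)])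

def ov_61 : List ℕ × ℕ × ℕ × List (ℕ × ℤ) := ([13, 2, 0], 0, 1, [(13005, -1)])

def ov_62 : List ℕ × ℕ × ℕ × List (ℕ × ℤ) := ([13, 3, 0], 0, 1, [(13006, -1)])

def ov_63 : List ℕ × ℕ × ℕ × List (ℕ × ℤ) := ([13, 4, 1], 0, 1, [(13010, -1)])

def ov_64 : List ℕ × ℕ × ℕ × List (ℕ × ℤ) := ([13, 4, 2], 0, 1, [(13007, -1)])

def ov_65 : List ℕ × ℕ × ℕ × List (ℕ × ℤ) := ([13, 5, 0], 0, 1, [(13008, -1)])

def ov_66 : List ℕ × ℕ × ℕ × List (ℕ × ℤ) := ([1, 0, 0], 0, 1, [(1000, 2), (4000, 1), (4001, 1), (4004, 1), (6001, 1), (6004, 2), (8001, 1), (8004, 2), (9001, 1), (9009, 1), (10001, 1), (10004, 2), (10006, 1), (10009, 1), (10010, 1), (11001, 1), (11004, 1), (11006, 1), (11008, 1), (11009, 1), (11010, 2), (11011, 3), (12004, 1), (12008, 1), (12009, 2), (12011, 3), (12012, 3), (13001, 1), (13004, 1), (13009, 1), (13011, 2), (13012, 2), (13013,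 2)])

def ov_67 : List ℕ × ℕ × ℕ × List (ℕ × ℤ) := ([2, 2, 0], 0, 1, [(2000, -2), (4000, 1), (5000, 1), (5002, -1), (5005, -1), (6000, 1), (6005, -2), (8000, 1), (8005, -1), (8006, 1), (9000, 1), (9005, -1), (9008, 1), (10005, -1), (10006, -1), (10009, -1), (10010, -2), (11000, 1), (11005, -2), (11006, -1), (11008, -1), (11009, 1), (11010, -2), (12008, 1), (12010, -1), (12011, -2), (12012, -1), (13010, -3), (13011, -1), (13012, -2), (13013, -2)])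

def ov_68 : List ℕ × ℕ × ℕ × List (ℕ × ℤ) := ([3, 3, 0], 0, 1, [(3000, -2), (6003, -1), (6006, -1), (11000, 1), (11006, -2), (12000, 1), (12006, -1)])

def ov_69 : List ℕ × ℕ × ℕ × List (ℕ × ℤ) := ([3, 0, 0], 0, 1, [(3000, 2), (4003, 1), (6000, 1), (6003, 1), (6006, 1), (8003, 1), (8006, 2), (9003, 1), (9006, 2), (10003, 1), (10006, 2), (11003, 1), (11006, 2), (11008, 1), (11009, 3), (11010, 2), (11011, 2), (12008, 1), (12009, 3), (12010, 1), (12011, 1), (12012, 3), (13003, 1), (13006, 2), (13009, 1), (13010, 1), (13011, 1), (13012, 1), (13013, 1)])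

def ov_70 : List ℕ × ℕ × ℕ × List (ℕ × ℤ) := ([4, 4, 0], 0, 1, [(4000, -2), (9004, -1), (9009, -1), (11000, 1), (11009, -2), (12009, -1)])

def ov_71 : List ℕ × ℕ × ℕ × List (ℕ × ℤ) := ([4, 0, 0], 0, 1, [(4000, 2), (6004, 1), (8004, 1), (9000, 1), (9004, 1), (9009, 1), (10004, 1), (10009, 2), (11004, 1), (11008, -1), (11011, 1), (12010, 1), (12012, 1), (13004, 1), (13011, 1), (13013, 1)])

def ov_72 : List ℕ × ℕ × ℕ × List (ℕ × ℤ) := ([4, 4, 1], 0, 1, [(4001, -2), (10004, -1), (10010, -1), (11001, 1), (11010, -2), (12010, -1), (13010, -1)])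

def ov_73 : List ℕ × ℕ × ℕ × List (ℕ × ℤ) := ([4, 1, 1], 0, 1, [(4001, 2), (6004, 1), (7004, 1), (8004, 1), (9004, 1), (10001, 1), (10004, 1), (10010, 1), (11004, 1), (11007, 1), (11008, 1), (11010, 2), (11011, 1), (12008, 1), (12009, 1), (12010, 2), (12011, 2), (12012, 2), (13010, 2), (13011, 1), (13012, 1), (13013, 1)])

def ov_74 : List ℕ × ℕ × ℕ × List (ℕ × ℤ) := ([4, 4, 2], 0, 1, [(4002, -2), (7004, -1), (7007, -1), (11002, 1), (11007, -2), (12007, -1)])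

def ov_75 : List ℕ × ℕ × ℕ × List (ℕ × ℤ) := ([4, 4, 3], 0, 1, [(4003, -2), (11003, 1), (11004, -1), (11011, -1)])

def ov_76 : List ℕ × ℕ × ℕ × List (ℕ × ℤ) := ([5, 5, 0], 0, 1, [(5000, -2), (8005, -1), (8008, -1), (9000, 1), (9008, -2), (10000, 1), (10008, -2), (11000, 1), (11008, -1), (12000, 1), (12008, -2), (12012, 1), (13000, 1), (13008, -1), (13010, 1), (13012, -1)])

def ov_77 : List ℕ × ℕ × ℕ × List (ℕ × ℤ) := ([6, 6, 0], 0, 1, [(6000, -2)])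

def ov_78 : List ℕ × ℕ × ℕ × List (ℕ × ℤ) := ([6, 0, 0], 0, 1, [(6000, 2), (6004, -1), (8006, 1), (9006, 1), (10006, 1), (11008, -1), (12009, 1), (12012, 1), (13006, 1)])

def ov_79 : List ℕ × ℕ × ℕ × List (ℕ × ℤ) := ([6, 6, 3], 0, 1, [(6003, -2), (12006, -1), (12012, -1)])

def ov_80 : List ℕ × ℕ × ℕ × List (ℕ × ℤ) := ([8, 8, 3], 0, 1, [(8003, -2), (13008, -1), (13013, -1)])

def ov_81 : List ℕ × ℕ × ℕ × List (ℕ × ℤ) := ([9, 9, 3], 0, 1, [(9003, -2), (11009, -1), (11011, -1)])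

def ov_82 : List ℕ × ℕ × ℕ × List (ℕ × ℤ) := ([11, 11, 2], 0, 1, [(11002, -2), (12011, -1), (12012, -1)])

def ov_83 : List ℕ × ℕ × ℕ × List (ℕ × ℤ) := ([12, 12, 2], 0, 1, [(12002, -2), (13012, -1), (13013, -1)])

def ov_84 : List ℕ × ℕ × ℕ × List (ℕ × ℤ) := ([13, 13, 2], 0, 1, [(13002, -2)])

def ov_85 : List ℕ × ℕ × ℕ × List (ℕ × ℤ) := ([0, 0, 0], 0, 1, [(4000, 1), (6000, 1), (8000, 1), (9000, 1), (9006, 1), (9008, 1), (9009, 1), (10000, 1), (11000, 1), (11009, 1), (11010, 1), (11011, 1), (12008, 1), (12009, 1), (12011, 2), (12012, 2), (13000, 1), (13010, 1), (13011, 1), (13012, 1), (13013, 1)])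

def ov_86 : List ℕ × ℕ × ℕ × List (ℕ × ℤ) := ([1, 1, 1], 0, 1, [(6001, 1), (7001, 1), (8001, 1), (9001, 1), (9008, 1), (9009, 1), (10001, 1), (10007, 1), (10009, 1), (10010, 1), (11001, 1), (11008, 1), (11009, 2), (11011, 1), (12007, 1), (12008, 1), (12009, 3), (12010, 1), (12011, 3), (12012, 2), (13009, 1), (13010, 1), (13011, 2), (13012, 2), (13013, 2)])

def ov_87 : List ℕ × ℕ × ℕ × List (ℕ × ℤ) := ([2, 2, 2], 0, 1, [(4002, 1), (5002, 1), (6002, 1), (7005, 1), (7006, 1), (7007, 1), (8002, 1), (8006, 1), (8007, 1), (8008, 1), (9002, 1), (9006, 1), (9007, 1), (9008, 2), (9009, 1), (10006, 1), (10007, 1), (10008, 1), (10010, 1), (11002, 1), (11008, 2), (11009, 2), (11011, 2), (12006, 1), (12008, 3), (12009, 2), (12010, 2), (12011, 2), (12012, 4), (13007, 1), (13008, 3), (13009, 4), (13010, 3), (13011, 2), (13012, 5), (13013, 4)])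

def ov_88 : List ℕ × ℕ × ℕ × List (ℕ × ℤ) := ([4, 4, 4], 0, 1, [(11004, 1)])

def ov_89 : List ℕ × ℕ × ℕ × List (ℕ × ℤ) := ([5, 5, 5], 0, 1, [(9005, 1), (10005, 1), (11005, 1), (12005, 1), (12010, 1), (12012, 1), (13005, 1), (13010, 1), (13011, 1), (13012, 1), (13013, 1)])

def fr_0 : ℕ × List ℕ × List ℕ × List (ℕ × ℤ) := (0, [6, 0], [0, 6], [(4001, 1), (6000, -1), (6004, -1), (7001, 1), (7004, -1), (7006, 1), (8001, 1), (8006, 1), (8007, 1), (9004, -1), (9007, -1), (9009, 1), (10001, 1), (10004, -1), (10006, 1), (10007, 1), (10008, -1), (10009, 2), (10010, 1), (11006, 1), (11007, -1), (11008, 1), (11009, 1), (11011, 1), (12004, -1), (12006, 1), (12007, 1), (12008, 1), (12010, 1), (12011, 1), (13001, 1), (13009, 2), (13010, 3), (13011, 2), (13012, 2), (13013, 1)])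

def fr_1 : ℕ × List ℕ × List ℕ × List (ℕ × ℤ) := (1, [1, 0], [0, 1, 6, 9], [(1000, -2), (2000, -2), (4000, -1), (4001, -1), (4002, -1), (4004, -1), (5000, -1), (5005, -1), (6001, 1), (6002, 1), (6004, -1), (6005, -3), (7004, -1), (7005, -3), (8002, -1), (8006, 1), (8007, 1), (9000, -1), (9002, 1), (9005, -1), (9006, -2), (9007, -3), (9008, -2), (9009, -2), (10001, 1), (10002, 1), (10004, -2), (10005, -2), (10006, -2), (10007, 1), (10009, 1), (10010, -2), (11001, 1), (11002, 1), (11005, -1), (11006, -1), (11008, 1), (11009, -1), (11010, -5), (12004, -2), (12005, -1), (12006, -1), (12007, 2), (12010, -3), (12012, -5), (13002, 1), (13004, -1), (13005, -1), (13006, -2), (13007, -4), (13008, -2), (13009, -3), (13010, -2), (13011, 1), (13012, -9), (13013, -4), (1001006, -1), (1001009, -1)])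

def fr_2 : ℕ × List ℕ × List ℕ × List (ℕ × ℤ) := (1, [3, 0], [0, 3, 8, 9, 10, 11], [(1000, -1), (2000, -1), (2001, -1), (4000, -2), (4004, -1), (5000, -1), (5001, 1), (5002, 1), (5004, -1), (5005, -1), (7001, -1), (7002, -1), (7006, 1), (8004, 2), (8005, 2), (8006, 1), (9000, -1), (9001, -1), (9002, -1), (9006, 1), (9007, -1), (9008, 2), (9009, -3), (10004, 1), (10005, -3), (10006, 1), (10007, -1), (10008, 4), (10009, -4), (10010, -2), (11001, 1), (11007, -3), (11008, 2), (11009, -5), (11010, -4), (11011, -1), (12004, -2), (12005, -2), (12006, 1), (12007, -3), (12008, 5), (12009, -2), (12011, 1), (12012, -2), (13004, -2), (13005, 1), (13007, -2), (13008, 3), (13009, 3), (13010, -3), (13011, 1), (13012, 1), (1001008, -1), (1001009, -1), (1001010, -1), (1001011, -1)])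

def fr_3 : ℕ × List ℕ × List ℕ × List (ℕ × ℤ) := (1, [4, 1], [1, 4, 6, 8, 11, 12], [(4000, 1), (4002, -1), (5000, -1), (5001, -1), (5004, -1), (6004, -1), (6005, 1), (7000, -1), (7002, -2), (7007, -1), (8002, -2), (8004, -1), (8005, 1), (8006, -1), (8007, -4), (8008, -1), (9000, 1), (9002, 1), (9004, -1), (9005, 1), (9006, -3), (9007, -2), (9008, -2), (9009, -3), (10005, -1), (10006, -1), (10007, -4), (10008, -2), (10009, -4), (10010, -2), (11000, -1), (11004, -2), (11005, 2), (11007, 1), (11008, 1), (11010, -2), (11011, -2), (12002, -1), (12004, -1), (12005, 1), (12007, -2), (12009, -1), (12010, -3), (12012, -5), (13000, -1), (13002, 1), (13004, 1), (13006, -1), (13007, -3), (13008, -1), (13009, -1), (13010, -1), (13012, -2), (13013, -7), (1001006, -1), (1001008, -1), (1001011, -1), (1001012, -1)])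

def fr_4 : ℕ × List ℕ × List ℕ × List (ℕ × ℤ) := (1, [5, 0], [0, 5, 9, 11], [(3001, 1), (3002, 1), (4001, 1), (4002, 1), (4003, -1), (5003, -1), (5004, -1), (6000, -1), (6001, -1), (6002, 1), (6004, 2), (6006, 1), (7001, 1), (7006, 1), (7007, 1), (8001, 1), (8004, 1), (8006, 1), (8007, 2), (8008, 1), (9001, 1), (9003, -1), (9004, 3), (9005, 1), (9006, 1), (9007, 1), (9008, -1), (9009, 1), (10001, 1), (10002, 1), (10004, -1), (10008, -1), (11005, -2), (11007, -2), (11008, 1), (11010, -3), (11011, 2), (12002, 1), (12005, 1), (12006, 1), (12007, 1), (12008, 3), (12009, 3), (12010, 3), (12011, 2), (12012, 3), (13001, 1), (13005, 1), (13007, -1), (13009, 1), (13010, -1), (13011, -2), (13013, 2), (1001009, -1), (1001011, -1)])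

def fr_5 : ℕ × List ℕ × List ℕ × List (ℕ × ℤ) := (1, [5, 2], [2, 5, 11], [(3000, 1), (3001, 1), (4000, 1), (4001, 1), (4003, -1), (5003, -1), (5004, -1), (6001, 1), (6003, -2), (6004, 1), (6006, 1), (7000, 1), (7001, 1), (8000, 1), (8001, 1), (8003, -1), (8004, 1), (8007, 1), (9000, 1), (9003, -1), (9004, 2), (9005, 1), (9008, -1), (9009, 2), (10000, 1), (10005, 1), (10007, -1), (10008, 2), (10009, 3), (10010, 1), (11003, -1), (11004, 1), (11005, -2), (11006, -1), (11007, 1), (11008, 1), (11009, 3), (11010, 1), (11011, 1), (12004, 1), (12005, 1), (12009, 2), (12010, 3), (12011, -1), (12012, 2), (13000, 1), (13001, 1), (13003, -1), (13004, -1), (13005, 1), (13006, -2), (13007, -2), (13009, 3), (13010, 1), (13011, 4), (13012, -1), (13013, 1), (1001011, -1)])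

def fr_6 : ℕ × List ℕ × List ℕ × List (ℕ × ℤ) := (1, [7, 5], [5, 7, 10, 11], [(8003, 1), (8004, 1), (8006, -1), (8007, 1), (9003, 1), (9004, 1), (9007, 1), (10008, -1), (10009, -1), (11003, 1), (11007, 1), (11008, 1), (11009, 2), (11010, 1), (12007, 1), (12008, 1), (12009, 1), (12010, 1), (13004, 1), (13007, 1), (13009, 3), (13010, 1), (13011, 1), (13012, -1), (1001010, -1), (1001011, -1)])

def fr_7 : ℕ × List ℕ × List ℕ × List (ℕ × ℤ) := (1, [8, 0], [0, 8, 10, 11, 12], [(9000, -1), (9002, 1), (9004, 1), (9005, 1), (11001, 1), (11004, 1), (11005, 1), (11009, 1), (12004, 1), (12009, 1), (12011, 3), (12012, 2), (13001, -1), (13002, 1), (13004, 1), (13005, 1), (13009, 1), (13012, -1), (1001010, -1), (1001011, -1), (1001012, -1)])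

def fr_8 : ℕ × List ℕ × List ℕ × List (ℕ × ℤ) := (1, [8, 3], [3, 8, 11], [(9000, 1), (9001, 1), (9005, 1), (9008, 1), (11000, 1), (11001, 1), (11009, -1), (12001, 1), (12004, 1), (12008, 1), (12011, 2), (12012, 2), (13001, 1), (13008, 1), (13011, 2), (13012, 2), (13013, 1), (1001011, -1)])

def fr_9 : ℕ × List ℕ × List ℕ × List (ℕ × ℤ) := (1, [8, 4], [4, 8, 11, 12], [(9000, 1), (9002, 1), (9004, 1), (9005, -1), (9006, 1), (10009, -1), (11000, 1), (11002, 1), (12002, 1), (12004, 1), (12010, 1), (12011, -1), (12012, 2), (13002, 1), (13011, 1), (13012, 1), (1001011, -1), (1001012, -1)])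

def fr_10 : ℕ × List ℕ × List ℕ × List (ℕ × ℤ) := (1, [8, 5], [5, 8, 11], [(9003, 1), (9004, 1), (9006, -1), (9007, 1), (9008, 1), (10009, -1), (11003, 1), (12007, 1), (12008, 1), (12009, 1), (12010, 1), (13008, 1), (13010, 1), (13011, -2), (1001011, -1)])

def fr_11 : ℕ × List ℕ × List ℕ × List (ℕ × ℤ) := (1, [8, 6], [6, 8, 12], [(10009, -1), (11007, 1), (11009, 1), (11010, 1), (13009, 1), (13010, 1), (13011, 1), (1001012, -1)])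

def fr_12 : ℕ × List ℕ × List ℕ × List (ℕ × ℤ) := (1, [8, 7], [7, 8], [(11008, 1)])

def fr_13 : ℕ × List ℕ × List ℕ × List (ℕ × ℤ) := (1, [9, 0], [0, 9, 10, 11, 12], [(10000, -1), (10002, 1), (10004, 1), (10005, 1), (10009, 1), (11001, -1), (11011, -1), (12005, 1), (12011, -3), (13001, -1), (13002, 1), (13005, 1), (13009, 1), (13011, -2), (13012, -1), (13013, -1), (1001010, -1), (1001011, -1), (1001012, -1)])

def fr_14 : ℕ × List ℕ × List ℕ × List (ℕ × ℤ) := (1, [9, 5], [5, 9], [(10003, 1), (10004, 1), (10006, -1), (10007, 1), (10008, 1), (10009, 1), (12003, 1), (12007, 1), (12008, 1), (12009, 1), (12010, 1), (12012, 1), (13004, 1), (13008, 1), (13010, -1), (13012, 2), (13013, 2)])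

def fr_15 : ℕ × List ℕ × List ℕ × List (ℕ × ℤ) := (1, [9, 8], [8, 9], [(11010, -1), (12009, 1), (12011, 1)])

def fr_16 : ℕ × List ℕ × List ℕ × List (ℕ × ℤ) := (2, [3, 2], [2, 3, 10], [(4003, -1), (6003, 1), (6004, 1), (8003, 1), (8004, 1), (9003, 1), (9004, 1), (10006, -1), (10008, -1), (10009, -1), (11004, 1), (11008, 1), (11010, -1), (11011, 1), (12003, 1), (12008, 1), (12009, 1), (12010, 1), (12011, 3), (12012, 1), (13004, 1), (13006, 1), (13008, 1), (13009, 1), (13010, 1), (13011, 1), (1002010, -1)])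

def fr_17 : ℕ × List ℕ × List ℕ × List (ℕ × ℤ) := (2, [5, 3], [3, 5, 10], [(6004, -1), (8006, -1), (9006, -1), (11006, 1), (11008, 1), (11011, -1), (12008, 1), (12011, -1), (12012, -1), (1002010, -1)])

def fr_18 : ℕ × List ℕ × List ℕ × List (ℕ × ℤ) := (2, [6, 2], [2, 6, 10, 11, 12], [(4003, 1), (6004, -1), (7004, 1), (7006, 1), (8003, 1), (8006, 1), (8007, -1), (9004, -1), (9007, -1), (9008, -1), (10003, 1), (10006, 1), (10007, -1), (10009, 1), (11003, 1), (11007, 2), (11008, 3), (11011, 1), (12004, -1), (12007, -1), (12008, 2), (12012, 1), (13003, 1), (13006, 1), (13007, -1), (13008, 2), (13010, 1), (13011, 4), (13012, -1), (1002010, -1), (1002011, -1), (1002012, -1)])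

def fr_19 : ℕ × List ℕ × List ℕ × List (ℕ × ℤ) := (2, [8, 0], [0, 8, 12], [(11000, 1), (12009, 1), (12011, 1), (13000, 1), (13009, -1), (13012, 1), (1002012, -1)])

def fr_20 : ℕ × List ℕ × List ℕ × List (ℕ × ℤ) := (2, [9, 1], [1, 9, 11, 12], [(10001, -1), (10003, 1), (10005, 1), (10007, 1), (11003, 1), (11005, 1), (11007, 1), (11010, 1), (12005, 1), (12011, 2), (13003, 1), (13007, 1), (13010, -1), (13011, 1), (13012, 1), (13013, 1), (1002011, -1), (1002012, -1)])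

def fr_21 : ℕ × List ℕ × List ℕ × List (ℕ × ℤ) := (2, [10, 0], [0, 10, 11], [(11009, 1), (12009, 1), (12011, 1), (13011, -1), (13012, -1), (1002011, -1)])

def fr_22 : ℕ × List ℕ × List ℕ × List (ℕ × ℤ) := (2, [10, 4], [4, 10, 12], [(11001, 1), (11003, 1), (11005, -1), (11008, 1), (12003, 1), (12008, 1), (13003, 1), (13008, 1), (1002012, -1)])

def fr_23 : ℕ × List ℕ × List ℕ × List (ℕ × ℤ) := (2, [12, 4], [4, 12], [(12001, 1), (12003, 1), (12008, 1), (12011, 1), (13001, 1), (13003, 1), (13005, -1), (13008, 1), (13011, 1)])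

def fr_24 : ℕ × List ℕ × List ℕ × List (ℕ × ℤ) := (3, [5, 2], [2, 5, 8, 9, 10], [(3001, -1), (3002, -1), (4001, 1), (4002, -1), (4003, -1), (5001, -1), (5002, 1), (5003, -2), (5004, -1), (6001, -1), (6003, -2), (6005, 1), (6006, -1), (7002, -1), (7006, -2), (7007, -3), (8001, -1), (8003, -3), (8004, -1), (8006, -4), (8007, -4), (8008, -3), (9002, 1), (9004, -1), (9005, 2), (9006, -1), (9007, -4), (9008, -4), (9009, -4), (10001, 1), (10004, -1), (10005, 1), (10006, -1), (10007, -2), (10008, -7), (10009, -6), (10010, -1), (11001, 1), (11002, 1), (11003, -2), (11004, -1), (11006, 3), (11007, -6), (11008, -9), (11009, -6), (11011, -5), (12003, -1), (12006, -2), (12007, -3), (12008, -4), (12009, 1), (12012, -5), (13001, 1), (13006, -2), (13007, -8), (13008, -7), (13009, 1), (13010, -1), (13011, -10), (13012, -6), (13013, -10), (1003008, -1),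 (1003009, -1), (1003010, -1)])

def fr_25 : ℕ × List ℕ × List ℕ × List (ℕ × ℤ) := (3, [7, 0], [0, 7, 8], [(4000, 1), (4001, 1), (4003, 1), (5000, 1), (5001, 1), (5003, 1), (7000, 1), (7001, 1), (7004, 1), (7005, 1), (7007, 1), (8001, 1), (8007, 1), (8008, 1), (9005, 1), (9007, 2), (9008, 2), (9009, 2), (10001, -1), (10003, -1), (10004, 1), (10007, 4), (10008, 1), (10009, 1), (10010, 2), (11000, 1), (11003, -1), (11005, 1), (11007, 3), (11008, 1), (11009, 1), (11010, 2), (11011, 2), (12003, -1), (12007, 3), (12010, 1), (12011, -4), (12012, 2), (13001, -1), (13003, -1), (13005, -1), (13007, 3), (13008, 3), (13009, 3), (13010, 5), (13011, 1), (13012, 5), (13013, 5), (1003008, -1)])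

def fr_26 : ℕ × List ℕ × List ℕ × List (ℕ × ℤ) := (3, [7, 1], [1, 7], [(4001, 1), (4002, 1), (5001, 1), (5002, 1), (5004, -1), (7001, 1), (7004, -1), (7005, 1), (7007, 1), (8002, 1), (8007, 1), (8008, 1), (9002, 1), (9007, -1), (9008, 1), (9009, 1), (10004, -1), (10007, 2), (10008, 2), (10009, 3), (10010, 1), (11001, 1), (11005, 1), (11007, -1), (11011, 1), (12002, -1), (12004, -1), (12005, 1), (12008, 3), (12009, 2), (12010, 1), (12011, 2), (12012, 1), (13004, -2), (13005, -1), (13008, 2), (13009, 2), (13010, 1), (13011, 1), (13012, 2), (13013, 4)])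

def fr_27 : ℕ × List ℕ × List ℕ × List (ℕ × ℤ) := (3, [7, 2], [2, 7, 9, 10], [(4001, 1), (4002, 1), (4003, 1), (5001, 1), (5002, 1), (5003, 1), (5004, -1), (6004, -1), (6005, -1), (7001, 1), (7003, 1), (7004, -1), (7007, 1), (8002, 1), (8004, -1), (8006, 1), (8007, 1), (8008, 1), (9002, 1), (9003, 1), (9004, -1), (9006, -1), (9007, -2), (9009, 1), (10001, 1), (10002, 1), (10003, -1), (10005, 1), (10006, -3), (10007, 1), (10008, 2), (10009, 3), (10010, 1), (11001, 1), (11003, 1), (11005, 2), (11007, -2), (11008, -1), (11009, 2), (11010, 2), (11011, 2), (12003, 1), (12004, -1), (12006, -2), (12007, 2), (12008, 4), (12009, 3), (12010, 1), (12011, 1), (12012, 2), (13002, 1), (13006, -2), (13008, 2), (13009, 2), (13011, -2), (13012, 3), (13013, 5), (1003009, -1), (1003010, -1)])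

def fr_28 : ℕ × List ℕ × List ℕ × List (ℕ × ℤ) := (3, [7, 3], [3, 7, 10], [(7004, 1), (7005, 1), (9007, 2), (10005, -2), (10007, 2), (11004, 1), (11005, -1), (11007, 2), (12005, -1), (12007, 2), (12009, -1), (13005, -2), (13007, 2), (13009, -1), (13010, 3), (13012, 2), (13013, 2), (1003010, -1)])

def fr_29 : ℕ × List ℕ × List ℕ × List (ℕ × ℤ) := (3, [8, 1], [1, 8], [(8001, 1), (8002, 1), (8005, 1), (8007, 1), (9001, 1), (9005, 1), (9007, 1), (9009, 1), (11002, -1), (11004, -1), (11007, 1), (11009, 1), (11011, 1), (12001, 1), (12007, 1), (12011, 1), (12012, 1), (13001, 1), (13002, -1), (13007, 1), (13008, -1), (13011, -1), (13012, 1), (13013, 2)])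

def fr_30 : ℕ × List ℕ × List ℕ × List (ℕ × ℤ) := (3, [8, 3], [3, 8, 10], [(8004, 1), (8005, 1), (9004, 1), (9005, 1), (11005, -1), (11009, 2), (11011, 1), (12004, 1), (12011, 1), (12012, 1), (13004, 1), (13005, 1), (1003010, -1)])

def fr_31 : ℕ × List ℕ × List ℕ × List (ℕ × ℤ) := (3, [8, 4], [4, 8], [(8007, 1), (9007, 1), (11008, 1), (11009, 1), (12007, 1), (12011, -1), (13007, 1), (13009, 1), (13011, -1), (13013, 1)])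

def fr_32 : ℕ × List ℕ × List ℕ × List (ℕ × ℤ) := (3, [8, 7], [7, 8], [(8004, 1), (8005, 1), (8007, 1), (9004, 1), (9005, 1), (9007, 1), (10008, -1), (10009, -1), (11004, 1), (11007, 1), (11008, -1), (11009, 1), (11011, 1), (12004, 1), (12007, 1), (12010, 1), (12011, 2), (12012, 1), (13004, 1), (13005, 1), (13011, -2), (13012, -1), (13013, 1)])

def fr_33 : ℕ × List ℕ × List ℕ × List (ℕ × ℤ) := (3, [9, 0], [0, 9], [(7000, 1), (7001, 1), (7003, 1), (7004, 1), (7005, 1), (8000, 1), (8001, 1), (8003, 1), (8004, 1), (8005, 1), (8007, -1), (9000, 1), (9001, 1), (9003, 1), (9004, 1), (9005, 1), (9007, -1), (9008, 2), (9009, 2), (10001, 1), (10008, 2), (10009, 4), (10010, 1), (11000, 1), (11001, 1), (11003, 1), (11004, 1), (11008, 4), (11009, 7), (11011, 4), (12000, -1), (12001, -1), (12007, -1), (12008, 2), (12009, 3), (12010, 1), (12011,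 4), (12012, 5), (13007, -1), (13008, 2), (13009, 1), (13011, 4), (13012, 3), (13013, 4)])

def fr_34 : ℕ × List ℕ × List ℕ × List (ℕ × ℤ) := (3, [9, 7], [7, 9], [(7004, 1), (7005, 1), (8004, 1), (8005, 1), (8007, 1), (9004, 1), (9005, 1), (9007, 1), (10007, -1), (10008, -1), (10009, -1), (11004, 1), (11008, -1), (11009, 1), (11010, 1), (11011, 1), (12008, 2), (12009, 2), (12010, -1), (12011, 2), (12012, 2), (13009, 2), (13011, -1), (13012, 1), (13013, 1)])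

def fr_35 : ℕ × List ℕ × List ℕ × List (ℕ × ℤ) := (3, [10, 5], [5, 10], [(13001, 1), (13002, 1), (13004, 1), (13007, 1), (13008, -1), (13009, 1), (13010, 1), (13011, 1), (13012, 1)])

def fr_36 : ℕ × List ℕ × List ℕ × List (ℕ × ℤ) := (3, [10, 6], [6, 10], [(13001, 1), (13002, 1), (13004, 1), (13010, 1)])

def tg_0 : ℕ × ℤ × List (ℕ × ℤ) := (1000, 0, [(0, 1)])

def tg_1 : ℕ × ℤ × List (ℕ × ℤ) := (2000, 0, [(1, 1)])

def tg_2 : ℕ × ℤ × List (ℕ × ℤ) := (3000, 0, [(2, 1)])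

def tg_3 : ℕ × ℤ × List (ℕ × ℤ) := (4002, 0, [(3, 1)])

def tg_4 : ℕ × ℤ × List (ℕ × ℤ) := (5000, 0, [(4, 1)])

def tg_5 : ℕ × ℤ × List (ℕ × ℤ) := (4000, 0, [(5, 1)])

def tg_6 : ℕ × ℤ × List (ℕ × ℤ) := (4001, 0, [(6, 1)])

def tg_7 : ℕ × ℤ × List (ℕ × ℤ) := (4003, 0, [(7, 1)])

def tg_8 : ℕ × ℤ × List (ℕ × ℤ) := (6003, 0, [(8, 1)])

def tg_9 : ℕ × ℤ × List (ℕ × ℤ) := (8003, 0, [(9, 1)])

def tg_10 : ℕ × ℤ × List (ℕ × ℤ) := (12006, 0, [(52, -1)])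

def tg_11 : ℕ × ℤ × List (ℕ × ℤ) := (12010, 0, [(56, 1)])

def tg_12 : ℕ × ℤ × List (ℕ × ℤ) := (13009, 0, [(57, -1)])

def tg_13 : ℕ × ℤ × List (ℕ × ℤ) := (12011, 0, [(62, 1)])

def tg_14 : ℕ × ℤ × List (ℕ × ℤ) := (13011, 0, [(63, 1)])

def tg_15 : ℕ × ℤ × List (ℕ × ℤ) := (12009, 0, [(64, -1)])

def tg_16 : ℕ × ℤ × List (ℕ × ℤ) := (12004, 0, [(65, -1)])

def tg_17 : ℕ × ℤ × List (ℕ × ℤ) := (12008, 0, [(67, -1)])

def tg_18 : ℕ × ℤ × List (ℕ × ℤ) := (13012, 0, [(69, 1)])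

def tg_19 : ℕ × ℤ × List (ℕ × ℤ) := (13004, 0, [(70, -1)])

def tg_20 : ℕ × ℤ × List (ℕ × ℤ) := (13005, 0, [(71, -1)])

def tg_21 : ℕ × ℤ × List (ℕ × ℤ) := (13006, 0, [(72, -1)])

def tg_22 : ℕ × ℤ × List (ℕ × ℤ) := (13010, 0, [(73, -1)])

def tg_23 : ℕ × ℤ × List (ℕ × ℤ) := (13007, 0, [(74, -1)])

def tg_24 : ℕ × ℤ × List (ℕ × ℤ) := (13008, 0, [(75, -1)])

def tg_25 : ℕ × ℤ × List (ℕ × ℤ) := (11004, 0, [(98, 1)])

def tg_26 : ℕ × ℤ × List (ℕ × ℤ) := (11008, 0, [(112, 1)])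

def tg_27 : ℕ × ℤ × List (ℕ × ℤ) := (12000, 0, [(22, 1)])

def tg_28 : ℕ × ℤ × List (ℕ × ℤ) := (12007, 0, [(68, -1)])

def tg_29 : ℕ × ℤ × List (ℕ × ℤ) := (11003, 0, [(37, 1)])

def tg_30 : ℕ × ℤ × List (ℕ × ℤ) := (11009, 0, [(44, 1)])

def tg_31 : ℕ × ℤ × List (ℕ × ℤ) := (11006, 0, [(51, -1)])

def tg_32 : ℕ × ℤ × List (ℕ × ℤ) := (12003, 0, [(59, -1)])

def tg_33 : ℕ × ℤ × List (ℕ × ℤ) := (11007, 0, [(60, -1)])

def tg_34 : ℕ × ℤ × List (ℕ × ℤ) := (12012, 0, [(89, -1)])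

def tg_35 : ℕ × ℤ × List (ℕ × ℤ) := (13013, 0, [(90, -1)])

def tg_36 : ℕ × ℤ × List (ℕ × ℤ) := (11010, 0, [(115, -1)])

def tg_37 : ℕ × ℤ × List (ℕ × ℤ) := (13003, 0, [(55, 1)])

def tg_38 : ℕ × ℤ × List (ℕ × ℤ) := (11011, 0, [(85, -1)])

def tg_39 : ℕ × ℤ × List (ℕ × ℤ) := (10006, 0, [(12, -1), (14, -1), (19, 2), (20, -1), (21, -1), (24, -12), (25, 2), (30, -1), (33, 1), (35, 3), (38, 6), (41, -13), (43, 12), (45, -13), (48, 2), (49, -1), (50, -1), (54, -16), (58, -1), (66, -4), (91, 1), (92, -7), (93, -1), (94, -10), (99, 1), (107, 1), (109, -1), (110, 1), (111, 1), (113, -1), (114, 1), (119, 5), (120, -1), (121, 1), (122, -4), (128, -1), (130, 1), (136, -2)])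

def tg_40 : ℕ × ℤ × List (ℕ × ℤ) := (13000, 0, [(46, 1)])

def tg_41 : ℕ × ℤ × List (ℕ × ℤ) := (10009, 0, [(47, -1)])

def tg_42 : ℕ × ℤ × List (ℕ × ℤ) := (13001, 0, [(53, 1)])

def tg_43 : ℕ × ℤ × List (ℕ × ℤ) := (12005, 0, [(61, -1)])

def tg_44 : ℕ × ℤ × List (ℕ × ℤ) := (12001, 0, [(123, 1)])

def tg_45 : ℕ × ℤ × List (ℕ × ℤ) := (13002, 0, [(135, 1)])

def tg_46 : ℕ × ℤ × List (ℕ × ℤ) := (9008, 0, [(43, -1)])

def tg_47 : ℕ × ℤ × List (ℕ × ℤ) := (9009, 0, [(35, 1), (80, -1)])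

def tg_48 : ℕ × ℤ × List (ℕ × ℤ) := (10010, 0, [(25, 1), (82, -1)])

def tg_49 : ℕ × ℤ × List (ℕ × ℤ) := (10007, 0, [(12, -4), (14, 2), (19, 3), (20, -1), (21, 1), (24, -12), (30, -1), (33, 1), (35, 9), (38, 2), (41, -16), (42, 2), (50, -3), (58, -1), (82, 3), (87, 1), (88, 1), (91, 1), (92, -8), (93, 1), (99, 1), (106, 1), (108, -3), (110, 3), (111, 1), (113, -1), (114, 1), (119, 2), (120, -1), (121, 1), (122, -1), (128, -1), (130, 1), (131, -1)])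

def tg_50 : ℕ × ℤ × List (ℕ × ℤ) := (12002, 0, [(49, 1)])

def tg_51 : ℕ × ℤ × List (ℕ × ℤ) := (11005, 0, [(58, -1)])

def tg_52 : ℕ × ℤ × List (ℕ × ℤ) := (9007, 0, [(42, -1)])

def tg_53 : ℕ × ℤ × List (ℕ × ℤ) := (10008, 0, [(50, -1)])

def tg_54 : ℕ × ℤ × List (ℕ × ℤ) := (8007, 0, [(131, 1)])

def tg_55 : ℕ × ℤ × List (ℕ × ℤ) := (9001, 0, [(12, -2), (14, -2), (19, 1), (21, 1), (24, -1), (35, 4), (82, 1), (87, -1), (88, -1), (91, 2), (108, -1), (110, 1), (116, 1), (117, -1)])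

def tg_56 : ℕ × ℤ × List (ℕ × ℤ) := (9004, 0, [(14, 1), (19, 1), (20, -2), (21, -1), (24, -10), (26, 1), (35, 1), (38, 4), (41, -11), (82, 3), (87, 2), (88, 2), (92, -5), (99, 4), (108, -1), (110, 1), (114, 3), (117, 1), (118, -1), (119, 5), (120, -2), (121, 3), (122, -2)])

def tg_57 : ℕ × ℤ × List (ℕ × ℤ) := (11000, 0, [(35, 1)])

def tg_58 : ℕ × ℤ × List (ℕ × ℤ) := (6006, 0, [(78, -1)])

def tg_59 : ℕ × ℤ × List (ℕ × ℤ) := (9005, 0, [(38, -1)])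

def tg_60 : ℕ × ℤ × List (ℕ × ℤ) := (9006, 0, [(40, -1)])

def tg_61 : ℕ × ℤ × List (ℕ × ℤ) := (10004, 0, [(32, -1)])

def tg_62 : ℕ × ℤ × List (ℕ × ℤ) := (11001, 0, [(36, 1)])

def tg_63 : ℕ × ℤ × List (ℕ × ℤ) := (10005, 0, [(99, 1)])

def tg_64 : ℕ × ℤ × List (ℕ × ℤ) := (11002, 0, [(39, 1)])

def tg_65 : ℕ × ℤ × List (ℕ × ℤ) := (10003, 0, [(114, 1)])

def tg_66 : ℕ × ℤ × List (ℕ × ℤ) := (10000, 0, [(12, 1)])

def tg_67 : ℕ × ℤ × List (ℕ × ℤ) := (6004, 0, [(21, -1)])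

def tg_68 : ℕ × ℤ × List (ℕ × ℤ) := (8006, 0, [(27, 1)])

def tg_69 : ℕ × ℤ × List (ℕ × ℤ) := (9003, 0, [(34, -1)])

def tg_70 : ℕ × ℤ × List (ℕ × ℤ) := (7006, 0, [(31, -1)])

def tg_71 : ℕ × ℤ × List (ℕ × ℤ) := (7003, 0, [(23, -1)])

def tg_72 : ℕ × ℤ × List (ℕ × ℤ) := (6000, 0, [(79, 1)])

def tg_73 : ℕ × ℤ × List (ℕ × ℤ) := (8004, 0, [(15, 1)])

def tg_74 : ℕ × ℤ × List (ℕ × ℤ) := (9000, 0, [(81, 1)])

def tg_75 : ℕ × ℤ × List (ℕ × ℤ) := (10001, 0, [(28, 1)])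

def tg_76 : ℕ × ℤ × List (ℕ × ℤ) := (8000, 0, [(95, 1)])

def tg_77 : ℕ × ℤ × List (ℕ × ℤ) := (7004, 0, [(83, 1)])

def tg_78 : ℕ × ℤ × List (ℕ × ℤ) := (8005, 0, [(132, 1)])

def tg_79 : ℕ × ℤ × List (ℕ × ℤ) := (8002, 0, [(16, -1)])

def tg_80 : ℕ × ℤ × List (ℕ × ℤ) := (8001, 0, [(129, 1)])

def tg_81 : ℕ × ℤ × List (ℕ × ℤ) := (7005, 0, [(134, 1)])

def tg_82 : ℕ × ℤ × List (ℕ × ℤ) := (10002, 0, [(29, 1)])

def tg_83 : ℕ × ℤ × List (ℕ × ℤ) := (7001, 0, [(100, 1)])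

def tg_84 : ℕ × ℤ × List (ℕ × ℤ) := (6005, 0, [(17, 1)])

def tg_85 : ℕ × ℤ × List (ℕ × ℤ) := (7000, 0, [(133, 1)])

def tg_86 : ℕ × ℤ × List (ℕ × ℤ) := (7007, 0, [(84, -1)])

def tg_87 : ℕ × ℤ × List (ℕ × ℤ) := (9002, 0, [(33, -1)])

def tg_88 : ℕ × ℤ × List (ℕ × ℤ) := (8008, 0, [(86, -1)])

def tg_89 : ℕ × ℤ × List (ℕ × ℤ) := (5004, 0, [(13, 1)])

def tg_90 : ℕ × ℤ × List (ℕ × ℤ) := (6001, 0, [(96, 1)])

def tg_91 : ℕ × ℤ × List (ℕ × ℤ) := (7002, 0, [(18, 1)])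

def tg_92 : ℕ × ℤ × List (ℕ × ℤ) := (4004, 0, [(76, 1)])

def tg_93 : ℕ × ℤ × List (ℕ × ℤ) := (5001, 0, [(10, -1)])

def tg_94 : ℕ × ℤ × List (ℕ × ℤ) := (5002, 0, [(126, 1)])

def tg_95 : ℕ × ℤ × List (ℕ × ℤ) := (5005, 0, [(77, -1)])

def tg_96 : ℕ × ℤ × List (ℕ × ℤ) := (6002, 0, [(97, 1)])

def tg_97 : ℕ × ℤ × List (ℕ × ℤ) := (5003, 0, [(11, 1)])

def tg_98 : ℕ × ℤ × List (ℕ × ℤ) := (3001, 0, [(105, 1), (110, -1)])

def tg_99 : ℕ × ℤ × List (ℕ × ℤ) := (3002, 0, [(124, -1), (125, 1), (127, 1)])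

def tg_100 : ℕ × ℤ × List (ℕ × ℤ) := (2001, 0, [(101, -1), (102, -1), (103, 1), (104, 2), (110, -3), (111, -2), (113, 1)])

def C : Cert where
  p := 2
  n := 14
  r := 4
  fuel := 439
  rules := [rule_0, rule_1, rule_2, rule_3, rule_4, rule_5, rule_6, rule_7, rule_8, rule_9, rule_10, rule_11, rule_12, rule_13]
  defs := [(1, 0), (2, 0), (3, 0), (4, 2), (5, 0), (4, 0), (4, 1), (4, 3), (6, 3), (8, 3)]
  items := [item_0, item_1, item_2, item_3]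
  ovs := [ov_0, ov_1, ov_2, ov_3, ov_4, ov_5, ov_6, ov_7, ov_8, ov_9, ov_10, ov_11, ov_12, ov_13, ov_14, ov_15, ov_16, ov_17, ov_18, ov_19, ov_20, ov_21, ov_22, ov_23, ov_24, ov_25, ov_26, ov_27, ov_28, ov_29, ov_30, ov_31, ov_32, ov_33, ov_34, ov_35, ov_36, ov_37, ov_38, ov_39, ov_40, ov_41, ov_42, ov_43, ov_44, ov_45, ov_46, ov_47, ov_48, ov_49, ov_50, ov_51, ov_52, ov_53, ov_54, ov_55, ov_56, ov_57, ov_58, ov_59, ov_60, ov_61, ov_62, ov_63, ov_64, ov_65, ov_66, ov_67, ov_68, ov_69, ov_70, ov_71, ov_72, ov_73, ov_74, ov_75, ov_76, ov_77, ov_78, ov_79, ov_80, ov_81, ov_82, ov_83, ov_84, ov_85, ov_86, ov_87, ov_88, ov_89]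
  frs := [fr_0, fr_1, fr_2, fr_3, fr_4, fr_5, fr_6, fr_7, fr_8, fr_9, fr_10, fr_11, fr_12, fr_13, fr_14, fr_15, fr_16, fr_17, fr_18, fr_19, fr_20, fr_21, fr_22, fr_23, fr_24, fr_25, fr_26, fr_27, fr_28, fr_29, fr_30, fr_31, fr_32, fr_33, fr_34, fr_35, fr_36]
  k0 := 1000
  zm := 1
  zcomb := [(0, 1)]
  targets := [tg_0, tg_1, tg_2, tg_3, tg_4, tg_5, tg_6, tg_7, tg_8, tg_9, tg_10, tg_11, tg_12, tg_13, tg_14, tg_15, tg_16, tg_17, tg_18, tg_19, tg_20, tg_21, tg_22, tg_23, tg_24, tg_25, tg_26, tg_27, tg_28, tg_29, tg_30, tg_31, tg_32, tg_33, tg_34, tg_35, tg_36, tg_37, tg_38, tg_39, tg_40, tg_41, tg_42, tg_43, tg_44, tg_45, tg_46, tg_47, tg_48, tg_49, tg_50, tg_51, tg_52, tg_53, tg_54, tg_55, tg_56, tg_57, tg_58, tg_59, tg_60, tg_61, tg_62, tg_63, tg_64, tg_65, tg_66, tg_67, tg_68, tg_69, tg_70, tg_71, tg_72, tg_73, tg_74, tg_75, tg_76, tg_77,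 tg_78, tg_79, tg_80, tg_81, tg_82, tg_83, tg_84, tg_85, tg_86, tg_87, tg_88, tg_89, tg_90, tg_91, tg_92, tg_93, tg_94, tg_95, tg_96, tg_97, tg_98, tg_99, tg_100]

def wE : List (List ℕ) := [[1, 3, 0, 3, 1, 2, 0, 2, 1, 3, 0, 3, 1, 3, 0, 3, 3, 1, 3, 3, 0, 3, 3, 1, 3, 3, 0, 3, 3, 1, 3, 3, 0, 3, 3, 1, 3, 3, 3, 0, 2, 1, 3, 0, 3, 1, 2, 0, 2, 1, 3, 3, 3, 3, 0, 4, 1, 3, 4, 3, 1, 3, 4, 3, 3, 3, 5, 4, 2, 6, 4, 2, 2, 5, 4, 3, 0, 6, 4, 3, 1, 5], [3, 1, 3, 3, 0, 3, 3, 1, 3, 3, 0, 3, 1, 3, 0, 3, 1, 2, 0, 2, 1, 3, 0, 3, 1, 3, 0, 3, 3, 1, 3, 0, 2, 1, 2, 0, 3, 1, 3, 3, 0, 3, 3, 1, 3, 3, 0, 3, 3, 1, 3, 3, 0, 3, 1, 3, 0, 3, 1, 2, 0, 2, 1, 3, 0, 3, 1, 3, 0, 3, 3, 1, 3, 0, 2, 1, 2, 0, 3, 1, 3, 3, 0, 3, 1, 3, 0, 3, 1, 2, 0, 2, 1, 3, 0, 3, 1, 3, 0, 3, 3, 1, 3, 0, 2, 1, 2, 0, 3, 1, 3, 3, 0, 3, 3, 1, 3, 3, 0, 3, 1, 3, 0, 3, 1, 2, 0, 2, 1, 3, 0, 3, 1, 3, 0, 3,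 3, 1, 3, 0, 2, 1, 2, 0, 3, 1, 3, 3, 0, 3, 1, 3, 0, 3, 1, 2, 0, 2, 1, 3, 0, 3, 1, 3, 0, 3, 3, 1, 3, 0, 2, 1, 2, 0, 3, 1, 3, 3, 0, 3, 1, 3, 0, 3, 1, 3, 0, 3, 3, 1, 3, 3, 3, 0, 2, 1, 3, 3, 0, 3, 3, 1, 4, 3, 1, 3, 3, 5, 4, 3, 4, 3, 4, 2, 6, 4, 3, 4, 2, 1], [1, 3, 0, 3, 1, 2, 0, 2, 1, 3, 0, 3, 1, 3, 0, 3, 3, 1, 3, 0, 2, 1, 2, 0, 3, 1, 3, 3, 0, 3, 3, 1, 3, 3, 0, 3, 1, 3, 0, 3, 1, 2, 0, 2, 1, 3, 0, 3, 1, 3, 0, 3, 3, 1, 3, 0, 2, 1, 2, 0, 3, 1, 3, 3, 0, 3, 3, 1, 3, 3, 0, 3, 1, 3, 0, 3, 1, 2, 0, 2, 1, 3, 0, 3, 1, 3, 0, 3, 3, 1, 3, 3, 0, 3, 3, 1, 3, 3, 3, 0, 2, 1, 3, 0, 3, 1, 3, 0, 3, 3, 1, 3, 3, 3, 0, 3, 3, 3, 4, 3, 3, 1, 3, 4, 1, 3, 4, 6, 4, 2, 2, 4, 3, 4, 3, 3, 6, 4, 3, 4, 3, 3, 4], [3, 1, 3, 3, 0, 3, 3, 1, 3, 3, 0, 3, 1, 3, 0, 3, 1, 2, 0, 2, 1, 3, 0, 3, 1, 3, 0, 3, 3, 1, 3, 0, 2, 1, 2, 0, 3, 1, 3, 3, 0, 3, 1, 3, 0, 3, 1, 2, 0, 2, 1, 3, 0, 3,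 1, 3, 0, 3, 3, 1, 3, 0, 2, 1, 2, 0, 3, 1, 3, 3, 0, 3, 3, 1, 3, 3, 0, 3, 1, 3, 0, 3, 1, 2, 0, 2, 1, 3, 0, 3, 1, 3, 0, 3, 3, 1, 3, 0, 2, 1, 2, 0, 3, 1, 3, 3, 0, 3, 1, 3, 0, 3, 1, 2, 0, 2, 1, 3, 0, 3, 1, 3, 0, 3, 3, 1, 3, 0, 2, 1, 2, 0, 3, 1, 3, 3, 0, 3, 3, 1, 3, 3, 0, 3, 1, 3, 0, 3, 1, 2, 0, 2, 1, 3, 0, 3, 1, 3, 0, 3, 3, 1, 3, 0, 2, 1, 2, 0, 3, 3, 3, 1, 3, 0, 3, 3, 1, 3, 0, 4, 3, 3, 3, 4, 3, 4, 1, 5, 4, 2, 0, 6, 4, 3, 3, 1, 3, 4, 3, 6, 4, 3, 4, 3], [1, 3, 0, 3, 1, 2, 0, 2, 1, 3, 0, 3, 1, 3, 0, 3, 3, 1, 3, 0, 2, 1, 2, 0, 3, 1, 3, 3, 0, 3, 3, 1, 3, 3, 0, 3, 1, 3, 0, 3, 1, 2, 0, 2, 1, 3, 0, 3, 1, 3, 0, 3, 3, 1, 3, 3, 0, 3, 3, 1, 3, 3, 3, 0, 2, 1, 3, 0, 3, 1, 2, 0, 2, 1, 3, 0, 3, 1, 2, 0, 2, 1, 3, 3, 3, 0, 3, 1, 3, 3, 0, 4, 3, 3, 4, 1, 3, 1, 3, 3, 5, 0, 4, 2, 4, 2, 6, 0, 2, 2, 4, 3, 0, 4, 3, 1, 5], [3, 1, 3, 3, 0, 3, 3, 1, 3, 3, 0, 3, 1, 3,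 0, 3, 1, 2, 0, 2, 1, 3, 0, 3, 1, 3, 0, 3, 3, 1, 3, 0, 2, 1, 2, 0, 3, 1, 3, 3, 0, 3, 1, 3, 0, 3, 1, 2, 0, 2, 1, 3, 0, 3, 1, 3, 0, 3, 3, 1, 3, 0, 2, 1, 2, 0, 3, 1, 3, 3, 0, 3, 3, 1, 3, 3, 0, 3, 1, 3, 0, 3, 1, 2, 0, 2, 1, 3, 0, 3, 1, 3, 0, 3, 3, 1, 3, 0, 2, 1, 2, 0, 3, 1, 3, 3, 0, 3, 1, 3, 0, 3, 1, 2, 0, 2, 1, 3, 0, 3, 1, 3, 0, 3, 3, 1, 3, 3, 3, 0, 3, 3, 1, 4, 3, 1, 4, 3, 3, 4, 3, 3, 1, 5, 0, 4, 2, 0, 4, 2, 2, 6, 4, 3, 0, 4, 5, 4, 2, 2], [3, 1, 3, 3, 0, 3, 3, 1, 3, 3, 0, 3, 1, 3, 0, 3, 1, 2, 0, 2, 1, 3, 0, 3, 1, 3, 0, 3, 3, 1, 3, 0, 2, 1, 2, 0, 3, 1, 3, 3, 0, 3, 1, 3, 0, 3, 1, 2, 0, 2, 1, 3, 0, 3, 1, 3, 0, 3, 3, 1, 3, 0, 2, 1, 2, 0, 3, 1, 3, 3, 0, 3, 1, 3, 0, 3, 1, 2, 0, 2, 1, 3, 0, 3, 1, 3, 0, 3, 3, 1, 3, 3, 0, 3, 3, 1, 3, 3, 0, 3, 3, 1, 3, 3, 0, 3, 3, 1, 3, 3, 3, 0, 2, 1, 3, 3, 3, 0, 3, 4, 3, 3, 3, 4, 3, 4, 1, 3, 5, 0, 4, 2, 4, 3, 3, 1,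 6, 4, 2, 5], [3, 3, 3, 5, 0, 4, 3, 0, 4, 3, 3, 0, 4, 6], [3, 1, 3, 3, 0, 3, 3, 1, 3, 3, 0, 3, 1, 3, 0, 3, 1, 2, 0, 2, 1, 3, 0, 3, 1, 3, 0, 3, 3, 1, 3, 0, 2, 1, 2, 0, 3, 1, 3, 3, 0, 3, 3, 1, 3, 3, 0, 3, 3, 1, 3, 3, 0, 3, 1, 3, 0, 3, 1, 2, 0, 2, 1, 3, 0, 3, 1, 3, 0, 3, 3, 1, 3, 0, 2, 1, 2, 0, 3, 1, 3, 3, 0, 3, 1, 3, 0, 3, 1, 2, 0, 2, 1, 3, 0, 3, 1, 3, 0, 3, 3, 1, 3, 0, 2, 1, 2, 0, 3, 1, 3, 3, 0, 3, 3, 1, 3, 3, 0, 3, 1, 3, 0, 3, 1, 2, 0, 2, 1, 3, 0, 3, 1, 3, 0, 3, 3, 1, 3, 0, 2, 1, 2, 0, 3, 1, 3, 3, 0, 3, 3, 1, 3, 3, 0, 3, 1, 3, 0, 3, 1, 3, 0, 3, 3, 1, 3, 3, 0, 3, 3, 1, 3, 3, 0, 3, 3, 1, 3, 3, 3, 0, 2, 1, 3, 0, 3, 1, 2, 0, 2, 1, 3, 0, 3, 1, 3, 0, 3, 3, 3, 1, 1, 4, 5, 0, 4, 2, 2, 4, 5, 4, 3, 0, 4, 2, 6, 4], [3, 1, 3, 3, 0, 3, 3, 1, 3, 3, 0, 3, 1, 3, 0, 3, 1, 2, 0, 2, 1, 3, 0, 3, 1, 3, 0, 3, 3, 1, 3, 0, 2, 1, 2, 0, 3, 1, 3, 3, 0, 3, 3, 1,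 3, 3, 0, 3, 3, 1, 3, 3, 0, 3, 1, 3, 0, 3, 1, 2, 0, 2, 1, 3, 0, 3, 1, 3, 0, 3, 3, 1, 3, 0, 2, 1, 2, 0, 3, 1, 3, 3, 0, 3, 3, 1, 3, 3, 0, 3, 3, 1, 3, 3, 0, 3, 1, 3, 0, 3, 1, 2, 0, 2, 1, 3, 0, 3, 1, 3, 0, 3, 1, 3, 0, 3, 1, 3, 3, 0, 2, 1, 3, 0, 3, 1, 2, 0, 2, 1, 3, 0, 3, 1, 3, 0, 3, 3, 5, 0, 4, 2, 6], [1, 3, 0, 3, 1, 2, 0, 2, 1, 3, 0, 3, 1, 2, 0, 2, 5, 1, 4, 6], [3, 1, 3, 3, 0, 3, 3, 1, 3, 3, 0, 3, 1, 3, 0, 3, 1, 2, 0, 2, 1, 3, 0, 3, 1, 3, 0, 3, 3, 1, 3, 0, 2, 1, 2, 0, 3, 1, 3, 3, 0, 3, 3, 1, 3, 3, 0, 3, 3, 1, 3, 3, 0, 3, 1, 3, 0, 3, 1, 2, 0, 2, 1, 3, 0, 3, 1, 3, 0, 3, 3, 1, 3, 0, 2, 1, 2, 0, 3, 1, 3, 3, 0, 3, 1, 3, 0, 3, 1, 2, 0, 2, 1, 3, 0, 3, 1, 3, 0, 3, 3, 1, 3, 0, 2, 1, 2, 0, 3, 1, 3, 3, 0, 3, 3, 1, 3, 3, 0, 3, 1, 3, 0, 3, 1, 2, 0, 2, 1, 3, 0, 3, 1, 3, 0, 3, 3, 1, 3, 0, 2, 1, 2, 0, 3, 1, 3, 3, 0, 3, 3, 1, 3, 3, 0, 3, 1, 3, 0, 3, 1, 3,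 0, 3, 3, 1, 3, 3, 0, 3, 3, 1, 3, 3, 0, 3, 3, 1, 3, 3, 3, 0, 2, 1, 3, 0, 3, 1, 2, 0, 2, 1, 3, 0, 3, 1, 3, 0, 3, 4, 1, 3, 4, 5, 0, 4, 2, 6, 0, 4], [3, 1, 3, 3, 0, 3, 3, 1, 3, 3, 0, 3, 1, 3, 0, 3, 1, 2, 0, 2, 1, 3, 0, 3, 1, 3, 0, 3, 3, 1, 3, 0, 2, 1, 2, 0, 3, 1, 3, 3, 0, 3, 3, 1, 3, 3, 0, 3, 3, 1, 3, 3, 0, 3, 1, 3, 0, 3, 1, 2, 0, 2, 1, 3, 0, 3, 1, 3, 0, 3, 3, 1, 3, 0, 2, 1, 2, 0, 3, 1, 3, 3, 0, 3, 1, 3, 0, 3, 1, 2, 0, 2, 1, 3, 0, 3, 1, 3, 0, 3, 3, 1, 3, 0, 2, 1, 2, 0, 3, 1, 3, 3, 0, 3, 3, 1, 3, 3, 0, 3, 1, 3, 0, 3, 1, 2, 0, 2, 1, 3, 0, 3, 1, 3, 0, 3, 3, 1, 3, 0, 2, 1, 2, 0, 3, 1, 3, 3, 0, 3, 3, 1, 3, 3, 0, 3, 1, 3, 0, 3, 1, 3, 0, 3, 3, 1, 3, 3, 0, 3, 3, 1, 3, 3, 0, 3, 3, 1, 3, 3, 3, 0, 2, 1, 3, 0, 3, 1, 2, 0, 2, 1, 3, 0, 3, 1, 3, 0, 3, 3, 4, 3, 3, 3, 3, 3, 5, 1, 4, 3, 6, 4, 2], [3, 5, 0, 4, 2, 1, 4, 6]]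

def wY : List (List ℕ) := [[1, 3, 0, 3, 1, 2, 0, 2, 1, 3, 0, 3, 1, 3, 0, 3, 3, 1, 3, 0, 2, 1, 2, 0, 3, 1, 3, 3, 0, 3, 3, 1, 3, 3, 0, 3, 1, 3, 0, 3, 1, 2, 0, 2, 1, 3, 0, 3, 1, 3, 0, 3, 3, 1, 3, 0, 2, 1, 2, 0, 3, 1, 3, 3, 0, 3, 3, 1, 3, 3, 0, 3, 1, 3, 0, 3, 1, 2, 0, 2, 1, 3, 0, 3, 1, 3, 3, 0, 2, 1, 3, 0, 3, 1, 2, 0, 2, 1, 3, 0, 3, 1, 3, 0, 3, 3, 3, 3, 1, 3, 0, 3, 3, 1, 3, 0, 3, 1, 1, 4, 3, 1, 3, 3, 4, 5, 0, 4, 3, 0, 4, 3, 0, 5, 4, 2, 2, 2, 0, 3, 4, 5, 4], [1, 3, 0, 3, 1, 2, 0, 2, 1, 3, 0, 3, 1, 3, 0, 3, 3, 1, 3, 0, 2, 1, 2, 0, 3, 1, 3, 3, 0, 3, 3, 1, 3, 3, 0, 3, 1, 3, 0, 3, 1, 2, 0, 2, 1, 3, 0, 3, 1, 3, 0, 3, 3, 1, 3, 3, 3, 0, 2, 1, 3, 0, 3, 1, 3, 0, 3, 3, 1, 3, 3, 3, 3, 0, 3, 1, 4, 3, 1, 4, 3, 1, 4, 5, 4, 2, 0, 4, 2, 0, 6, 4], [3, 1, 3, 3, 0, 3, 3, 1, 3, 3, 0, 3, 1, 3, 0, 3, 1, 2, 0, 2, 1, 3, 0, 3, 1, 3, 0, 3, 3, 1, 3, 0, 2, 1, 2, 0,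 3, 1, 3, 3, 0, 3, 1, 3, 0, 3, 1, 2, 0, 2, 1, 3, 0, 3, 1, 3, 0, 3, 3, 1, 3, 0, 2, 1, 2, 0, 3, 1, 3, 3, 3, 0, 2, 1, 3, 0, 3, 1, 3, 0, 3, 3, 1, 3, 3, 3, 3, 3, 0, 4, 3, 4, 3, 4, 3, 1, 5, 0, 4, 3, 4, 3, 3, 4, 3, 5, 4, 3, 3, 4, 5, 0], [1, 3, 0, 3, 1, 2, 0, 2, 1, 3, 0, 3, 1, 2, 0, 2, 1, 3, 4, 3, 3, 1, 4, 3, 1, 4, 3, 5, 0, 4, 3, 4, 3, 3, 6, 4, 2, 4, 3, 5, 0, 3]]

def lv : List (ℕ × List (List ℕ)) := [(7, [[], [2, 3, 4, 5, 7, 13], [4, 5, 13], [1, 2], [2, 3, 7], [4, 5], [2, 3, 4], [2, 3, 4, 5, 7], [5, 7, 13], [13], [2, 13], [0, 2, 3, 5, 7], [4, 7, 13], [2, 3, 5, 13], [2, 3, 4, 7], [2], [5, 13], [1, 2, 4], [4, 7], [2, 3, 5], [5], [1, 2, 5], [4, 13], [2, 3, 5, 7], [0, 5], [0, 2, 3, 4, 5, 13], [4], [1, 13], [2, 4, 5, 13], [3, 4, 13], [0, 1, 2, 5], [3, 4], [0, 4, 5, 7, 13], [2, 3, 4, 13], [0, 5, 13], [0, 2, 3, 4, 5], [0, 7], [5, 7], [1], [0, 2, 3,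 5, 13], [0, 4, 5], [0, 5, 7], [0, 2, 3, 4, 7], [0, 7, 13], [0, 4, 5, 7], [3, 4, 7], [2, 3], [2, 3, 13], [3, 7], [0, 4, 7, 13], [2, 4, 5], [1, 4, 7], [0, 1, 2, 4], [2, 4, 5, 7], [2, 5, 7], [0, 2, 3, 4, 5, 7, 13], [1, 4], [1, 4, 13], [3, 4, 7, 13], [4, 5, 7], [0, 2, 4, 5, 7, 13], [0, 2, 4, 5, 7], [4, 5, 7, 13], [3, 7, 13], [1, 4, 7, 13], [2, 4, 7], [0, 2, 3, 7], [2, 4, 7, 13], [2, 4, 13], [2, 3, 4, 5, 13], [7, 13], [7], [2, 3, 4, 5], [0, 1, 2], [0, 4, 5, 13], [0, 5, 7, 13], [0, 1, 4], [0, 2, 3, 4], [0, 2, 3, 4, 13], [0, 4, 7], [0, 1, 7], [0, 1, 7, 13], [0, 1, 4, 7], [2, 5, 7, 13], [0, 2, 3, 4, 5, 7], [0, 13], [2, 4], [0], [0, 4], [0, 2, 5, 7], [0, 2], [0, 2, 5, 13], [2, 4, 5, 7, 13], [0, 1, 4, 13], [0, 3, 4, 7], [0, 1], [0, 1, 4, 7, 13], [0, 3, 13], [0, 3], [0, 2, 3], [0, 3, 4, 7, 13], [0, 2, 13], [0, 2, 3, 5], [0, 2, 5, 7, 13], [0, 2,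 5], [0, 4, 13], [0, 2, 3, 13], [0, 2, 7, 13], [1, 7, 13], [0, 2, 7], [0, 3, 4, 13], [0, 3, 4], [1, 7], [0, 2, 4, 7], [3, 13], [2, 5, 13], [2, 7, 13], [2, 5], [2, 7], [0, 3, 7], [0, 2, 4, 13], [0, 1, 13], [0, 2, 4, 5, 13], [0, 3, 7, 13], [0, 2, 4], [0, 2, 4, 7, 13], [3], [0, 2, 4, 5]]), (17, [[], [1, 3, 5, 6, 7, 8], [1, 3, 5, 6, 7, 8, 11], [1, 3, 5, 7, 8, 11], [11], [6, 13], [1, 3, 4, 5, 7, 11, 13], [1, 3, 4, 5, 7, 13], [6, 11, 13], [4, 6, 8, 11, 13], [4, 6, 8, 13], [1, 3, 5, 7, 8], [1, 3, 4, 5, 6, 7, 13], [1, 3, 4, 5, 6, 7, 11, 13], [4, 8], [4, 8, 11]]), (25, [[], [10]]), (1156, [[], [9, 10, 13]]), (6721, [[], [10, 11, 12]])]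

theorem check_ok : C.check = true := by decide +kernel

abbrev base : List ℕ := Cfsg.Agent.Lib.TC.Iso.allBase [0] Cfsg.Agent.Lib.TC.D.HNL.C0.cl.levs

theorem hrules : chkRules Cfsg.Agent.Lib.TC.D.HNO.Tab.pt C wE base = true := by decide +kernel

theorem hitems : ∀ f < C.items.length, chkItem Cfsg.Agent.Lib.TC.D.HNO.Tab.pt C wE wY base f = true := by decide +kernel

theorem hlev : chkLev Cfsg.Agent.Lib.TC.D.HNO.Tab.pt wE [] lv = true := by decide +kernel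

theorem hwE : ∀ l ∈ wE, ∀ z ∈ l, z < 7 := by decide +kernel

theorem hwY : ∀ l ∈ wY, ∀ z ∈ l, z < 7 := by decide +kernel

theorem hlvn : ∀ t ∈ lv, ∀ u ∈ t.2, ∀ y ∈ u, y < C.n := by decide +kernel

theorem hprod : (lv.map fun t => t.2.length).prod = C.p ^ C.n := by decide +kernel

end Cfsg.Agent.Lib.Schur.HN.P2
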