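import Cfsg.Agent.Lib.Schur.PcBase
import Cfsg.Agent.Lib.TC.D.HNO.Tab
import Cfsg.Agent.Lib.TC.D.HNL.C0

/-!
# A tail certificate for a Sylow subgroup of the Harada-Norton group, with words in the columns of a table
-/

set_option autoImplicit false
set_option maxRecDepth 100000
set_option maxHeartbeats 0

namespace Cfsg.Agent.Lib.Schur.HN.P5

open Cfsg.Agent.Lib.Schur.PcMain Cfsg.Agent.Lib.Schur.PcBase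

def rule_0 : List (List ℕ) := [[5, 5, 5]]

def rule_1 : List (List ℕ) := [[1, 2], []]

def rule_2 : List (List ℕ) := [[2, 3], [2, 3, 3, 3, 4, 4, 4], []]

def rule_3 : List (List ℕ) := [[3, 4], [3, 4, 4, 4, 5, 5], [3, 5], []]

def rule_4 : List (List ℕ) := [[4, 5, 5], [4], [4], [4], []]

def rule_5 : List (List ℕ) := [[5], [5], [5], [5], [5], []]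

def item_0 : List (List ℕ) × List (List ℕ) := ([[0], [1], [2], [3], [4], [5]], [[0, 1, 2, 3, 3, 3, 4, 4], [1, 1, 1, 1, 3, 3, 3, 3, 4, 5, 5], [2, 2, 2, 2, 3, 3, 3, 4, 4, 4, 4, 5, 5, 5], [3, 4, 5, 5, 5], [4, 4, 4, 4], [5, 5, 5, 5]])

def item_1 : List (List ℕ) × List (List ℕ) := ([[0], [1], [2], [3], [4], [5]], [[0, 0, 0, 0, 2, 2, 2, 3, 5, 5], [1, 1, 1, 1], [2], [3, 3, 3, 3, 4, 5, 5, 5, 5], [4, 5, 5, 5], [5, 5, 5, 5]])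

def ov_0 : List ℕ × ℕ × ℕ × List (ℕ × ℤ) := ([2, 1, 0], 0, 1, [(3000, 3), (3001, -1), (3002, -4), (4000, 3), (4002, -1), (5002, -2), (5003, -6), (5004, 2)])

def ov_1 : List ℕ × ℕ × ℕ × List (ℕ × ℤ) := ([3, 1, 0], 0, 1, [(3002, -1), (4000, 3), (4001, -1), (4002, -4), (5000, 2), (5002, -2), (5005, 1)])

def ov_2 : List ℕ × ℕ × ℕ × List (ℕ × ℤ) := ([3, 2, 0], 0, 1, [(4002, -1), (4003, -1), (5000, 1), (5003, -1), (5004, -1)])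

def ov_3 : List ℕ × ℕ × ℕ × List (ℕ × ℤ) := ([3, 2, 1], 0, 1, [(4002, -3), (4003, -6), (5001, 1), (5002, -2), (5003, -9), (5004, -12)])

def ov_4 : List ℕ × ℕ × ℕ × List (ℕ × ℤ) := ([4, 2, 0], 0, 1, [(4003, -1), (5002, -2), (5003, -2)])

def ov_5 : List ℕ × ℕ × ℕ × List (ℕ × ℤ) := ([4, 3, 2], 0, 1, [(5004, 1)])

def ov_6 : List ℕ × ℕ × ℕ × List (ℕ × ℤ) := ([5, 1, 0], 0, 1, [(5002, -1)])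

def ov_7 : List ℕ × ℕ × ℕ × List (ℕ × ℤ) := ([5, 2, 0], 0, 1, [(5003, -1)])

def ov_8 : List ℕ × ℕ × ℕ × List (ℕ × ℤ) := ([1, 0, 0, 0, 0, 0], 0, 1, [(1000, 5), (2000, 10), (2002, 1), (3000, 5), (3002, 10), (3003, 2), (4000, 5), (4003, 3), (4004, 1), (5000, 2), (5001, 3), (5002, 15), (5003, 36), (5004, 25), (5005, 4)])

def ov_9 : List ℕ × ℕ × ℕ × List (ℕ × ℤ) := ([2, 2, 2, 2, 2, 0], 0, 4, [(2000, -5), (3002, -10), (3003, -1), (5002, -5), (5003, -15), (5005, -2)])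

def ov_10 : List ℕ × ℕ × ℕ × List (ℕ × ℤ) := ([2, 2, 2, 2, 2, 1], 0, 4, [(2001, -5), (3002, -10), (3003, -3), (4002, -10), (4003, -30), (4004, -3), (5002, -10), (5003, -40), (5004, -60), (5005, -2)])

def ov_11 : List ℕ × ℕ × ℕ × List (ℕ × ℤ) := ([3, 3, 3, 3, 3, 0], 0, 4, [(3000, -5), (4003, -10), (4004, -1)])

def ov_12 : List ℕ × ℕ × ℕ × List (ℕ × ℤ) := ([3, 3, 3, 3, 3, 2], 0, 4, [(3002, -5), (5003, -10), (5005, -1)])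

def ov_13 : List ℕ × ℕ × ℕ × List (ℕ × ℤ) := ([4, 4, 4, 4, 4, 0], 0, 4, [(4000, -5), (5004, -10), (5005, -2)])

def ov_14 : List ℕ × ℕ × ℕ × List (ℕ × ℤ) := ([4, 4, 4, 4, 4, 1], 0, 4, [(4001, -5)])

def ov_15 : List ℕ × ℕ × ℕ × List (ℕ × ℤ) := ([5, 5, 5, 5, 5, 0], 0, 4, [(5000, -5)])

def ov_16 : List ℕ × ℕ × ℕ × List (ℕ × ℤ) := ([0, 0, 0, 0, 0, 0], 0, 1, [(5000, 3)])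

def fr_0 : ℕ × List ℕ × List ℕ × List (ℕ × ℤ) := (1, [2, 0], [0, 2, 3], [(2000, 3), (3000, 6), (3002, 11), (4000, 4), (4002, 3), (4003, 5), (4004, 1), (5000, 2), (5002, 4), (5003, 6), (5004, 15), (5005, 3), (1001003, -1)])

def fr_1 : ℕ × List ℕ × List ℕ × List (ℕ × ℤ) := (1, [2, 1], [1, 2, 3, 3, 3, 4, 4, 4], [(2001, 3), (3001, 8), (4001, 4), (4003, 9), (4004, 6), (5001, 4), (5003, -15), (5004, 33), (5005, -1), (1001003, -3), (1001004, -3)])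

def fr_2 : ℕ × List ℕ × List ℕ × List (ℕ × ℤ) := (1, [3, 3, 3, 3, 3], [], [(3003, 3), (4003, 40), (4004, 1), (5003, 40), (5004, 10), (5005, 4), (1001003, 5)])

def fr_3 : ℕ × List ℕ × List ℕ × List (ℕ × ℤ) := (1, [3, 1], [1, 3, 4, 4, 4, 5, 5], [(3001, 15), (4001, 6), (4003, 32), (4004, 9), (5001, 9), (5003, 28), (5004, 96), (5005, 3), (1001004, -3), (1001005, -2)])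

def fr_4 : ℕ × List ℕ × List ℕ × List (ℕ × ℤ) := (1, [3, 2], [2, 3, 5], [(3002, 3), (4002, 1), (5002, 4), (5003, 6), (5004, 4), (1001005, -1)])

def fr_5 : ℕ × List ℕ × List ℕ × List (ℕ × ℤ) := (1, [4, 4, 4, 4, 4], [], [(5004, 10), (5005, 3), (1001004, 5)])

def fr_6 : ℕ × List ℕ × List ℕ × List (ℕ × ℤ) := (1, [4, 1], [1, 4], [(4001, 3), (5001, 12)])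

def tg_0 : ℕ × ℤ × List (ℕ × ℤ) := (1000, 0, [(0, 1)])

def tg_1 : ℕ × ℤ × List (ℕ × ℤ) := (2000, 0, [(1, 1)])

def tg_2 : ℕ × ℤ × List (ℕ × ℤ) := (3000, 0, [(2, 1)])

def tg_3 : ℕ × ℤ × List (ℕ × ℤ) := (3002, 0, [(3, 1)])

def tg_4 : ℕ × ℤ × List (ℕ × ℤ) := (5004, 0, [(9, 1)])

def tg_5 : ℕ × ℤ × List (ℕ × ℤ) := (5002, 0, [(10, -1)])

def tg_6 : ℕ × ℤ × List (ℕ × ℤ) := (5003, 0, [(11, -1)])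

def tg_7 : ℕ × ℤ × List (ℕ × ℤ) := (4003, 0, [(8, -1)])

def tg_8 : ℕ × ℤ × List (ℕ × ℤ) := (4004, 0, [(15, -1)])

def tg_9 : ℕ × ℤ × List (ℕ × ℤ) := (5005, 0, [(16, -1)])

def tg_10 : ℕ × ℤ × List (ℕ × ℤ) := (3003, 0, [(13, -1)])

def tg_11 : ℕ × ℤ × List (ℕ × ℤ) := (5000, 0, [(19, 1), (20, 2)])

def tg_12 : ℕ × ℤ × List (ℕ × ℤ) := (4002, 0, [(6, -1)])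

def tg_13 : ℕ × ℤ × List (ℕ × ℤ) := (5001, 0, [(7, 1)])

def tg_14 : ℕ × ℤ × List (ℕ × ℤ) := (4001, 0, [(18, 1), (27, 2)])

def tg_15 : ℕ × ℤ × List (ℕ × ℤ) := (4000, 0, [(5, 2), (17, 1)])

def tg_16 : ℕ × ℤ × List (ℕ × ℤ) := (3001, 0, [(4, -1)])

def tg_17 : ℕ × ℤ × List (ℕ × ℤ) := (2002, 0, [(12, 1)])

def tg_18 : ℕ × ℤ × List (ℕ × ℤ) := (2001, 0, [(14, 1), (21, -1), (22, 2), (23, 1), (24, -12), (25, 24), (26, -6)])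

def C : Cert where
  p := 5
  n := 6
  r := 2
  fuel := 211
  rules := [rule_0, rule_1, rule_2, rule_3, rule_4, rule_5]
  defs := [(1, 0), (2, 0), (3, 0), (3, 2)]
  items := [item_0, item_1]
  ovs := [ov_0, ov_1, ov_2, ov_3, ov_4, ov_5, ov_6, ov_7, ov_8, ov_9, ov_10, ov_11, ov_12, ov_13, ov_14, ov_15, ov_16]
  frs := [fr_0, fr_1, fr_2, fr_3, fr_4, fr_5, fr_6]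
  k0 := 1000
  zm := 1
  zcomb := [(0, 1)]
  targets := [tg_0, tg_1, tg_2, tg_3, tg_4, tg_5, tg_6, tg_7, tg_8, tg_9, tg_10, tg_11, tg_12, tg_13, tg_14, tg_15, tg_16, tg_17, tg_18]

def wE : List (List ℕ) := [[1, 3, 0, 3, 1, 2, 0, 2, 1, 3, 0, 3, 1, 3, 0, 3, 3, 1, 3, 0, 2, 1, 2, 0, 3, 1, 3, 3, 0, 3, 1, 3, 0, 3, 1, 3, 0, 3, 3, 1, 3, 3, 0, 3, 3, 3, 3, 1, 3, 0, 3, 3, 1, 3, 0, 3, 3, 1, 4, 3, 3, 1, 3, 1, 4, 3, 3, 1, 3, 5, 4, 2, 6, 4, 2, 0, 4, 6, 4, 2, 2, 4, 3, 1, 2, 2], [3, 1, 3, 3, 0, 3, 3, 1, 3, 3, 0, 3, 1, 3, 0, 3, 1, 2, 0, 2, 1, 3, 0, 3, 1, 3, 0, 3, 3, 1, 3, 0, 2, 1, 2, 0, 3, 1, 3, 3, 0, 3, 3, 1, 3, 3, 0, 3, 3, 1, 3, 3, 0, 3, 1, 3, 0, 3, 1, 2, 0, 2, 1, 3, 0, 3, 1, 3, 0, 3, 3, 1, 3, 0, 2, 1,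 2, 0, 3, 1, 3, 3, 0, 3, 1, 3, 0, 3, 1, 2, 0, 2, 1, 3, 0, 3, 1, 3, 0, 3, 3, 1, 3, 0, 2, 1, 2, 0, 3, 1, 3, 3, 0, 3, 3, 1, 3, 3, 0, 3, 1, 3, 0, 3, 1, 2, 0, 2, 1, 3, 0, 3, 1, 3, 0, 3, 3, 1, 3, 0, 2, 1, 2, 0, 3, 1, 3, 3, 0, 3, 3, 1, 3, 3, 0, 3, 3, 1, 3, 3, 0, 3, 1, 3, 0, 3, 1, 2, 0, 2, 1, 3, 0, 3, 1, 3, 0, 3, 1, 3, 0, 3, 1, 3, 3, 0, 2, 1, 3, 0, 3, 1, 2, 0, 3, 1, 3, 3, 3, 0, 3, 4, 3, 4, 3, 3, 1, 5, 4, 3, 6, 4, 3, 5, 0, 4, 3, 4, 3, 3, 5], [3, 1, 3, 3, 0, 3, 3, 1, 3, 3, 0, 3, 1, 3, 0, 3, 1, 2, 0, 2, 1, 3, 0, 3, 1, 3, 0, 3, 3, 1, 3, 0, 2, 1, 2, 0, 3, 1, 3, 3, 0, 3, 1, 3, 0, 3, 1, 2, 0, 2, 1, 3, 0, 3, 1, 3, 0, 3, 3, 1, 3, 0, 2, 1, 2, 0, 3, 1, 3, 3, 0, 3, 3, 1, 3, 3, 0, 3, 1, 3, 0, 3, 1, 2, 0, 2, 1,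 3, 0, 3, 1, 3, 3, 0, 2, 1, 3, 3, 0, 3, 3, 3, 4, 3, 3, 3, 1, 3, 4, 1, 3, 5, 0, 4, 3, 4, 3, 6, 4, 3, 4, 6, 4, 3, 3], [3, 1, 3, 3, 0, 3, 3, 1, 3, 3, 0, 3, 1, 3, 0, 3, 1, 2, 0, 2, 1, 3, 0, 3, 1, 3, 0, 3, 3, 1, 3, 0, 2, 1, 2, 0, 3, 1, 3, 3, 0, 3, 3, 1, 3, 3, 0, 3, 3, 1, 3, 3, 0, 3, 1, 3, 0, 3, 1, 2, 0, 2, 1, 3, 0, 3, 1, 3, 0, 3, 3, 1, 3, 0, 2, 1, 2, 0, 3, 1, 3, 3, 0, 3, 1, 3, 0, 3, 1, 2, 0, 2, 1, 3, 0, 3, 1, 3, 0, 3, 3, 1, 3, 0, 2, 1, 2, 0, 3, 1, 3, 3, 0, 3, 3, 1, 3, 3, 0, 3, 1, 3, 0, 3, 1, 2, 0, 2, 1, 3, 0, 3, 1, 3, 0, 3, 3, 1, 3, 0, 2, 1, 2, 0, 3, 1, 3, 3, 0, 3, 1, 3, 0, 3, 1, 2, 0, 2, 1, 3, 0, 3, 1, 3, 0, 3, 3, 1, 3, 0, 2, 1, 2, 0, 3, 1, 3, 3, 0, 3, 3, 1, 3, 3, 0, 3, 1, 3, 0, 3, 1, 2, 0, 2,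 1, 3, 0, 3, 1, 3, 0, 3, 3, 1, 3, 3, 3, 0, 2, 1, 3, 0, 3, 1, 2, 0, 2, 1, 3, 0, 3, 1, 3, 0, 3, 3, 3, 3, 1, 3, 0, 3, 3, 1, 3, 3, 0, 3, 4, 3, 4, 3, 3, 4, 3, 3, 3, 5, 4, 3, 6, 4, 3, 3, 5, 0, 4, 3, 3, 0, 2, 6, 4], [1, 3, 0, 3, 1, 2, 0, 2, 1, 3, 0, 3, 1, 3, 0, 3, 3, 1, 3, 0, 2, 1, 2, 0, 3, 1, 3, 3, 0, 3, 3, 1, 3, 3, 0, 3, 1, 3, 0, 3, 1, 2, 0, 2, 1, 3, 0, 3, 1, 3, 0, 3, 3, 1, 3, 0, 2, 1, 2, 0, 3, 1, 3, 3, 0, 3, 1, 3, 0, 3, 1, 3, 0, 3, 3, 1, 3, 3, 0, 3, 3, 1, 3, 3, 3, 0, 2, 1, 3, 3, 0, 3, 3, 3, 4, 3, 1, 4, 3, 3, 1, 3, 3, 3, 5, 4, 2, 0, 4, 2, 0, 6, 4, 2, 0, 3, 5, 4, 6], [1, 3, 0, 3, 1, 3, 0, 3, 3, 1, 3, 3, 0, 3, 1, 3, 3, 0, 3, 3, 3, 4, 3, 4, 3, 3, 3, 1, 3, 3, 4, 5, 0, 4, 2, 2, 2, 4, 3, 5, 4, 2, 4,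 2, 4, 3]]

def wY : List (List ℕ) := [[3, 1, 3, 3, 0, 3, 3, 1, 3, 3, 0, 3, 1, 3, 0, 3, 1, 2, 0, 2, 1, 3, 0, 3, 1, 3, 0, 3, 3, 1, 3, 0, 2, 1, 2, 0, 3, 1, 3, 3, 0, 3, 1, 3, 0, 3, 1, 2, 0, 2, 1, 3, 0, 3, 1, 3, 0, 3, 3, 1, 3, 0, 2, 1, 2, 0, 3, 1, 3, 3, 0, 3, 3, 1, 3, 3, 0, 3, 1, 3, 0, 3, 1, 2, 0, 2, 1, 3, 0, 3, 1, 3, 0, 3, 3, 1, 3, 0, 2, 1, 2, 0, 3, 1, 3, 3, 0, 3, 3, 1, 3, 3, 0, 3, 1, 3, 0, 3, 1, 3, 3, 0, 2, 1, 3, 0, 3, 1, 3, 0, 3, 3, 1, 3, 3, 3, 0, 3, 3, 4, 3, 1, 3, 4, 3, 4, 1, 3, 5, 4, 2, 4, 2, 6, 4, 5, 4, 2, 0, 3, 0, 4, 3, 1], [3, 1, 3, 3, 0, 3, 3, 1, 3, 3, 0, 3, 1, 3, 0, 3, 1, 2, 0, 2, 1, 3, 0, 3, 1, 3, 0, 3, 3, 1, 3, 0, 2, 1, 2, 0, 3, 1, 3, 3, 0, 3, 3, 1, 3, 3, 0, 3, 3, 1, 3, 3, 0, 3, 1,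 3, 0, 3, 1, 2, 0, 2, 1, 3, 0, 3, 1, 3, 0, 3, 3, 1, 3, 0, 2, 1, 2, 0, 3, 1, 3, 3, 0, 3, 3, 1, 3, 3, 3, 0, 2, 1, 3, 0, 3, 1, 3, 0, 3, 3, 1, 3, 3, 3, 0, 2, 1, 3, 3, 3, 0, 3, 3, 1, 3, 0, 3, 4, 3, 3, 3, 3, 1, 4, 3, 5, 4, 2, 2, 0, 4, 2, 5, 4, 2, 4, 2, 5, 1, 3, 4]]

def lv : List (ℕ × List (List ℕ)) := [(993, [[], [0, 0, 0, 0, 1, 3], [3, 4], [0, 0, 1, 2, 2, 2, 5, 5, 5], [0, 2, 3, 3, 3, 5, 5], [0, 0, 0, 1, 1, 3, 4], [0, 0, 0, 2, 2, 2, 3, 5, 5, 5], [0, 0, 0, 0, 1, 3, 3, 4], [0, 0, 0, 0, 3, 3, 3, 5, 5], [0, 1, 1, 3, 3, 5], [0, 3, 5, 5, 5], [0, 0, 1, 5, 5, 5], [0, 0, 0, 0, 1, 1], [0, 0, 0, 0, 2, 3, 3], [0, 0, 0, 1, 1, 2], [2, 2, 3, 3, 5, 5, 5], [0, 0, 0, 1, 1, 3], [0, 0, 2, 2, 2, 2, 5, 5, 5], [1, 2,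 2, 2, 3, 4], [0, 0, 0, 1, 2, 5, 5, 5], [0, 0, 0, 0, 2, 2, 2, 3, 5], [0, 0, 0, 1, 2, 2, 2, 3], [0, 0, 0, 0, 1, 5, 5, 5], [0, 0, 0, 0, 1, 1, 2, 5, 5], [0, 0, 0, 0, 1, 5], [0, 0, 0, 1, 3, 5], [3, 3, 3, 5, 5], [0, 0, 1, 3, 5, 5, 5], [0, 2, 3, 3, 5, 5, 5], [2, 3, 5], [0, 0, 0, 1, 2, 4], [2, 3, 3, 3], [0, 0, 0, 0, 1, 2, 2, 2, 3], [0, 2, 3, 4], [0, 0, 0, 0, 2, 2, 3, 3, 5, 5, 5], [3, 3, 3, 5], [0, 0, 0, 1, 1, 3, 3, 5], [0, 0, 0, 0, 2, 2, 2, 2], [0, 0, 0, 0, 1, 2, 5], [0, 0, 0, 0, 2, 2, 3, 3, 5], [0, 2, 2, 5, 5, 5], [0, 0, 0, 0, 2, 2, 2, 3, 4], [0, 3, 4], [0, 3, 3, 3], [0, 0, 2, 3, 3, 3], [0, 0, 1, 2, 2, 2, 5], [0, 0, 0, 1, 1, 5], [0, 2, 2, 2, 2, 5], [1, 1, 2, 2, 2, 4], [0, 0, 0, 1, 1, 3, 5, 5], [0,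 2], [0, 0, 0, 3, 3, 3, 5, 5], [0, 0, 1, 2, 2, 2, 3], [0, 0, 0, 2, 3, 3, 5, 5, 5], [3, 5, 5], [0, 0, 0, 0, 2, 3, 5, 5, 5], [0, 0, 0, 0, 5, 5], [0, 2, 2, 2, 3, 5, 5], [0, 0, 0, 0, 1, 1, 3, 4], [0, 0, 0, 1, 2, 2, 2, 3, 5, 5, 5], [0, 0, 2, 2, 5, 5], [2, 2, 2, 2, 5], [0, 0, 0, 1, 1, 3, 3, 5, 5, 5], [1, 3], [0, 0, 5], [2, 2, 2, 5], [0, 0, 1, 1, 4], [0, 2, 3], [0, 0, 0, 1, 2], [2, 3, 3, 3, 5, 5, 5], [0, 0, 0, 0, 2, 2, 2, 2, 5, 5], [0, 0, 2, 2, 2, 3, 4], [0, 0, 2, 2, 2, 2], [1, 2, 5], [0, 0, 0, 0, 3, 3, 4], [0, 1, 2, 5], [0, 0, 0, 1, 1], [0, 0, 3, 5, 5], [0, 0, 1, 3, 5, 5], [0, 1, 1, 3, 5, 5], [0, 1, 3, 3, 4], [2, 3, 3, 5, 5], [0, 2, 3, 3, 5, 5], [0, 1, 2, 2, 2, 5], [0, 3, 3, 3, 5, 5], [0, 2, 2,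 2, 3, 5, 5, 5], [0, 0, 0, 1, 2, 5, 5], [0, 2, 2, 2, 3], [0, 0, 0, 2, 3, 3, 3], [0, 0, 1, 1, 2, 5, 5], [0, 0, 0, 0, 2, 3], [0, 0, 0, 3, 3, 3, 5, 5, 5], [2, 2, 2, 3, 5], [1, 1, 3], [0, 0, 0, 3, 5, 5, 5], [0, 0, 0, 1, 3, 3, 5, 5], [2, 2, 2, 2, 4], [0, 0, 0, 2, 2, 3, 4], [0, 0, 3, 3, 3, 4], [0, 0, 0, 0, 1, 1, 2, 2, 2, 5], [0, 0, 0, 0, 2, 2], [0, 0, 0, 2, 2, 3, 3, 4], [1, 3, 3, 5, 5, 5], [0, 0, 0, 1, 2, 2, 2, 5], [1, 2, 2, 2, 5], [0, 0, 2, 2, 2, 3, 5, 5, 5], [0, 1, 2, 2, 2, 5, 5, 5], [0, 0, 0, 2, 2, 3, 3], [2, 5, 5], [0, 0, 0, 4], [0, 0, 2, 2, 2, 5], [0, 1, 1, 2, 2, 2, 5, 5, 5], [0, 0, 3, 3, 3, 5, 5], [0, 1, 2, 2, 2, 3], [0, 3, 3, 3, 4], [0, 0, 1, 1, 3, 3, 5, 5, 5], [0, 0, 0, 0, 1, 3, 5], [0,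 1, 3, 3, 5], [0, 1, 1, 2, 2, 2, 4], [0, 2, 2, 3], [0, 0, 0, 0, 1, 3, 5, 5, 5], [0, 0, 0, 2, 2, 2, 4], [0, 0, 1, 3, 3], [0, 0, 0, 3], [3, 3, 5, 5, 5], [0, 2, 2, 5], [0, 1, 1], [0, 0, 0, 1, 3, 3, 5, 5, 5], [0, 0, 0, 2, 2, 3], [1, 1, 2, 5], [0, 2, 2, 2, 5], [0, 0, 0, 1, 3, 5, 5], [0, 2, 2, 3, 3, 5, 5], [1, 2, 2, 2, 5, 5], [0, 0, 0, 0, 2, 3, 3, 5, 5], [0, 0, 0, 2, 2, 3, 5, 5], [0, 0, 2, 3, 3, 3, 5, 5], [2, 2, 2, 2, 5, 5], [0, 2, 3, 3, 3, 4], [0, 0, 1, 1, 3, 3, 4], [0, 0, 0, 2, 2, 2, 5, 5], [1, 1], [0, 1, 3, 5, 5], [0, 1, 1, 2], [0, 1, 3, 3, 5, 5], [0, 2, 2, 2, 5, 5, 5], [0, 0, 1], [0, 3, 3, 4], [0, 0, 0, 2, 2, 5], [0, 1, 1, 5, 5], [0, 0, 0, 0, 3, 3, 3, 5, 5, 5], [0, 0, 0, 0, 1, 3, 3, 5], [0,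 3, 3, 3, 5, 5, 5], [0, 1, 2, 4], [0, 2, 3, 5, 5], [0, 0, 2, 2, 3, 3], [0, 0, 2, 2, 2, 4], [0, 0, 0, 1, 2, 2, 2], [0, 0, 0, 0, 3], [0, 0, 0, 2, 5, 5], [0, 0, 2, 3], [0, 0, 1, 1, 3, 3, 5], [0, 0, 1, 1, 2, 2, 2, 5], [0, 0, 0, 1, 2, 2, 2, 5, 5], [0, 0, 0, 2, 4], [0, 2, 5, 5, 5], [0, 0, 0, 3, 3, 5, 5], [0, 2, 2, 2, 2], [0, 0, 0, 1, 2, 2, 2, 4], [0, 0, 0, 0, 1, 1, 5], [0, 0, 0, 1, 1, 3, 3], [0, 0, 2, 2, 3, 3, 5, 5, 5], [0, 0, 1, 1, 2, 2, 2, 5, 5], [0, 0, 0, 0, 2, 2, 2, 5, 5, 5], [0, 0, 0, 2, 3, 3, 3, 4], [0, 0, 2, 2, 3, 3, 4], [1, 2, 2, 2, 5, 5, 5], [0, 0, 2, 2, 3, 3, 5], [0, 0, 1, 1, 3, 4], [2, 2, 2, 2, 5, 5, 5], [0, 0, 1, 3, 4], [2, 3, 5, 5], [0, 1, 1, 3], [0, 0, 0, 0, 2, 2, 3, 5, 5], [1, 2,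 2, 2, 3, 5, 5, 5], [2, 2, 2, 3, 4], [0, 2, 2, 3, 5, 5], [0, 5, 5], [0, 0, 0, 0, 1], [0, 0, 0, 0, 2, 2, 3], [0, 0, 0, 1, 1, 2, 5, 5], [0, 0, 0, 2, 5, 5, 5], [0, 0, 0, 0, 1, 3, 5, 5], [0, 0, 2, 4], [0, 1, 1, 2, 4], [2, 2, 3, 3], [0, 3, 3, 5], [0, 0, 0, 0, 1, 4], [0, 0, 0, 2, 2, 3, 5], [2, 2, 2, 2], [0, 0, 0, 2, 2, 2, 2, 5, 5, 5], [0, 0, 1, 2, 5, 5, 5], [1, 3, 5, 5], [0, 0, 2, 2, 4], [0, 0, 0, 0, 2, 3, 3, 4], [0, 0, 0, 2, 2, 3, 3, 5, 5], [1, 2, 2, 2, 4], [0, 0, 2, 5, 5], [1, 1, 2, 2, 2], [0, 0, 0, 0, 2, 3, 4], [3, 3, 3, 5, 5, 5], [2, 3, 3, 4], [0, 2, 2, 2, 5, 5], [0, 2, 2, 3, 3, 5, 5, 5], [0, 0, 0, 3, 3, 3, 4], [1, 2, 2, 2], [0, 0, 1, 1, 2, 4], [0, 0, 2, 3, 5, 5, 5], [0, 0, 1, 2, 2, 2, 3, 5,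 5], [0, 0, 2, 2, 3, 5, 5, 5], [0, 0, 0, 0, 2, 3, 5], [0, 1, 3, 3, 5, 5, 5], [0, 0, 0, 0, 3, 3, 5], [0, 0, 0, 1, 1, 2, 2, 2, 5, 5], [0, 1, 1, 2, 5, 5], [0, 0, 0, 2, 2, 3, 5, 5, 5], [1, 1, 3, 3], [2, 2, 2, 3, 5, 5, 5], [1, 1, 3, 5, 5, 5], [1, 3, 5, 5, 5], [0, 0, 0, 0, 1, 3, 3, 5, 5, 5], [0, 2, 3, 3, 3, 5, 5, 5], [0, 0, 0, 1, 3, 3, 5], [0, 0, 0, 1, 3, 5, 5, 5], [0, 0, 0, 2, 2], [0, 0, 1, 2, 4], [0, 0, 1, 3, 3, 4], [2, 5, 5, 5], [0, 0, 0, 0, 2, 3, 3, 3, 5, 5], [0, 0, 0, 0, 1, 2, 2, 2, 3, 5, 5], [0, 0, 1, 1, 2, 2, 2, 4], [0, 0, 2, 2, 3, 5, 5], [0, 0, 0, 2, 2, 2, 3, 4], [0, 0, 0, 0, 1, 2, 5, 5, 5], [0, 0, 0, 2, 2, 2, 2, 5, 5], [2, 2, 2], [0, 0, 0, 2, 3, 3, 3, 5, 5], [0, 0, 1, 1, 2, 5, 5, 5], [1,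 2], [0, 0, 0, 0, 1, 1, 3, 3, 5, 5], [0, 0, 0, 1, 2, 2, 2, 3, 5], [0, 1, 1, 3, 4], [0, 0, 0, 0, 3, 5], [0, 0, 0, 2, 2, 2, 3, 5, 5], [0, 0, 1, 2, 5], [0, 0, 2, 2, 2, 3], [0, 0, 1, 2, 2, 2], [2, 2, 2, 3, 5, 5], [0, 2, 2, 2, 2, 5, 5], [1, 1, 2], [1, 2, 5, 5], [0, 0, 3, 3, 3], [0, 0, 0, 0, 2, 2, 3, 3], [2, 2, 3, 4], [0, 0, 0, 1, 3, 3], [0, 0, 0, 0, 2, 2, 3, 3, 5, 5], [0, 0, 0, 0, 3, 3, 3, 4], [0, 3], [0, 2, 2, 3, 3, 4], [3, 5], [0, 0, 0, 0, 3, 3, 5, 5, 5], [0, 0, 0, 0, 2, 2, 5, 5], [1, 1, 2, 2, 2, 5, 5, 5], [0, 0], [0, 0, 2, 3, 3, 3, 4], [0, 1, 1, 3, 3], [0, 0, 3, 3, 5], [0, 0, 0, 2, 3, 5], [0, 0, 2, 3, 5], [0, 0, 0, 1, 3, 3, 4], [0, 0, 0, 0, 3, 5, 5], [0, 0, 1, 3, 5], [0, 0, 2, 2, 5, 5, 5], [0,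 0, 3], [1, 1, 4], [0, 3, 5, 5], [1, 1, 3, 5], [0, 1, 1, 5, 5, 5], [0, 5, 5, 5], [5, 5, 5], [1, 1, 3, 3, 5, 5, 5], [0, 0, 0, 2, 2, 4], [0, 0, 1, 2, 2, 2, 3, 4], [0, 0, 0, 3, 3], [0, 0, 0, 1, 1, 2, 2, 2, 5], [2, 4], [0, 0, 0, 3, 3, 5], [2], [0, 0, 0, 0, 4], [0, 2, 2, 3, 5, 5, 5], [0, 0, 0, 0, 2, 3, 3, 3, 5], [1, 1, 2, 2, 2, 5, 5], [0, 0, 0, 2, 3, 3, 3, 5, 5, 5], [0, 0, 0, 3, 5, 5], [0, 0, 0, 1, 1, 2, 2, 2, 5, 5, 5], [0, 0, 0, 2, 2, 2, 3], [0, 1, 1, 2, 5], [0, 0, 0, 0, 2, 4], [1, 3, 5], [0, 0, 0, 0, 3, 3], [0, 1, 1, 3, 5, 5, 5], [0, 0, 0, 1, 5, 5], [0, 0, 0, 1, 1, 2, 5, 5, 5], [0, 0, 0, 1, 1, 2, 5], [0, 0, 0, 0, 2, 2, 3, 5, 5, 5], [0, 2, 5], [0, 0, 2], [0, 2, 3, 3, 3], [0, 0, 1, 1, 3, 3], [0,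 0, 0, 0, 1, 1, 5, 5], [0, 0, 3, 3, 3, 5, 5, 5], [0, 0, 2, 3, 3, 5], [0, 0, 0, 0, 2, 2, 4], [0, 0, 0, 0, 1, 2, 2, 2, 3, 5, 5, 5], [0, 0, 0, 2, 5], [0, 1, 3, 5], [0, 3, 3, 5, 5], [2, 2, 3, 5, 5], [0, 0, 0, 3, 3, 5, 5, 5], [0, 2, 3, 3, 3, 5], [0, 0, 0, 0, 1, 3, 3, 5, 5], [0, 0, 0, 0, 1, 2, 2, 2, 4], [0, 0, 0, 0, 1, 1, 5, 5, 5], [4], [0, 0, 0, 2, 2, 2, 5, 5, 5], [0, 0, 0, 0, 1, 2, 4], [0, 0, 0, 0, 1, 2, 2, 2], [0, 0, 0, 0, 2, 2, 2, 4], [1], [0, 0, 0, 0, 2, 2, 2, 2, 4], [0, 0, 0, 0, 1, 2, 5, 5], [0, 0, 0, 0, 2, 2, 3, 3, 4], [0, 2, 3, 3, 4], [0, 0, 1, 1, 2, 5], [1, 3, 4], [0, 0, 3, 3, 5, 5, 5], [0, 2, 2, 3, 4], [1, 3, 3], [0, 0, 0, 0, 3, 4], [0, 0, 2, 2, 3, 5], [0, 0, 0, 0, 2, 3, 5, 5], [0, 0,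 0, 1, 2, 2, 2, 3, 5, 5], [0, 0, 0, 0, 1, 2, 2, 2, 5, 5], [1, 1, 3, 5, 5], [3, 3, 3], [0, 1, 1, 2, 2, 2, 5], [0, 0, 0, 0, 1, 1, 2, 2, 2, 5, 5], [0, 0, 0, 0, 1, 2, 2, 2, 5, 5, 5], [2, 2, 3, 3, 5], [0, 0, 0, 5, 5], [0, 0, 2, 3, 3, 5, 5, 5], [3, 3], [2, 5], [2, 2, 5, 5, 5], [0, 0, 1, 2, 2, 2, 4], [0, 0, 1, 4], [0, 0, 2, 2, 5], [0, 0, 0, 0, 2], [0, 2, 4], [0, 4], [0, 2, 5, 5], [0, 0, 0, 1, 5], [0, 0, 1, 1, 3, 5, 5, 5], [0, 1, 2, 2, 2], [0, 0, 0, 0, 2, 5, 5, 5], [0, 0, 2, 2, 2, 2, 5], [0, 0, 0, 0, 1, 1, 2, 5, 5, 5], [2, 2, 3, 5], [0, 1, 3, 4], [0, 0, 0, 1, 2, 2, 2, 5, 5, 5], [0, 1], [0, 2, 2, 5, 5], [0, 0, 0, 0, 1, 2, 2, 2, 5], [0, 0, 0, 0, 1, 5, 5], [0, 0, 2, 2, 2, 5, 5, 5], [0, 2, 3, 3, 5], [0,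 0, 0, 0, 2, 2, 2, 3, 5, 5], [0, 0, 5, 5, 5], [0, 0, 0, 0, 1, 1, 2, 4], [0, 0, 1, 1, 2], [0, 1, 2, 2, 2, 5, 5], [0], [0, 0, 0, 1, 3, 4], [0, 3, 3, 5, 5, 5], [0, 0, 0, 0, 1, 1, 2, 5], [0, 0, 2, 2, 2, 2, 5, 5], [0, 0, 1, 3, 3, 5], [0, 0, 0, 2, 2, 5, 5, 5], [0, 0, 0, 2, 2, 3, 3, 5, 5, 5], [0, 0, 0, 0, 3, 3, 3], [0, 0, 0, 0, 1, 1, 3, 5, 5, 5], [0, 0, 0, 0, 1, 2], [2, 2, 2, 3], [0, 2, 3, 5], [1, 1, 5, 5], [0, 0, 2, 2, 3, 4], [0, 0, 0, 1, 1, 3, 5], [2, 2], [0, 0, 1, 1, 2, 2, 2], [0, 0, 0, 0, 1, 1, 3, 5, 5], [0, 0, 0, 0, 1, 1, 2, 2, 2, 4], [3, 3, 5, 5], [0, 0, 0, 2, 2, 2], [1, 2, 2, 2, 3, 5, 5], [0, 0, 5, 5], [0, 0, 3, 3, 3, 5], [1, 3, 3, 5], [0, 0, 0, 1, 1, 3, 3, 5, 5], [0, 0, 0, 2, 3, 4], [0, 1,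 2, 2, 2, 3, 5, 5], [0, 1, 3, 5, 5, 5], [0, 0, 2, 3, 3, 5, 5], [0, 0, 0, 0, 1, 1, 3, 3], [0, 0, 1, 2], [1, 5], [0, 0, 0, 0, 2, 2, 2, 2, 5, 5, 5], [0, 1, 1, 3, 3, 5, 5], [1, 1, 3, 3, 4], [0, 0, 0, 0, 2, 2, 5], [0, 0, 0, 1, 1, 5, 5], [0, 0, 0, 0, 1, 1, 3, 5], [0, 2, 2, 2, 3, 5], [0, 0, 1, 1, 3, 3, 5, 5], [0, 0, 2, 2, 2, 5, 5], [2, 2, 3, 3, 5, 5], [0, 0, 0, 2, 2, 2, 2, 5], [2, 2, 3, 3, 4], [0, 0, 1, 5, 5], [0, 0, 0, 0, 2, 2, 2, 5], [0, 1, 1, 2, 2, 2], [0, 0, 0, 0, 1, 1, 4], [2, 3], [0, 0, 2, 2, 3], [2, 3, 3], [5], [3, 3, 3, 4], [1, 2, 5, 5, 5], [0, 0, 2, 2, 3, 3, 5, 5], [0, 0, 0, 0, 2, 2, 3, 4], [0, 0, 2, 3, 5, 5], [0, 0, 0, 2, 2, 2, 3, 5], [0, 1, 3], [0, 0, 2, 2, 2], [2, 2, 2, 4], [0, 0, 0,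 2, 3, 3, 5], [0, 0, 2, 3, 3, 4], [2, 2, 4], [0, 0, 0, 0, 5, 5, 5], [0, 0, 0, 1], [0, 0, 0, 0, 1, 1, 2, 2, 2], [0, 0, 0, 0, 3, 3, 3, 5], [0, 0, 0, 2], [0, 0, 1, 1, 5, 5], [0, 1, 3, 3], [0, 0, 3, 3, 5, 5], [0, 0, 0, 2, 3, 3, 4], [0, 0, 0, 2, 3, 3, 5, 5], [0, 0, 0, 0, 1, 1, 3, 3, 5, 5, 5], [1, 1, 3, 4], [0, 0, 3, 5], [0, 1, 1, 3, 3, 5, 5, 5], [0, 0, 0, 2, 3, 3, 3, 5], [0, 0, 2, 2], [0, 0, 0, 0, 3, 5, 5, 5], [5, 5], [2, 3, 3, 5, 5, 5], [0, 0, 0, 0, 1, 1, 2], [0, 0, 1, 2, 5, 5], [0, 0, 0, 2, 2, 3, 3, 5], [0, 2, 2, 2, 2, 5, 5, 5], [0, 1, 5, 5], [1, 1, 2, 4], [0, 1, 2, 2, 2, 3, 4], [0, 0, 0, 0, 1, 1, 3, 3, 5], [0, 2, 3, 3], [1, 2, 2, 2, 3], [0, 0, 2, 3, 3, 3, 5, 5, 5], [0, 0, 3, 5, 5, 5], [0, 0,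 0, 3, 5], [2, 2, 3], [0, 1, 2, 5, 5], [0, 0, 1, 1, 3], [0, 0, 1, 3, 3, 5, 5, 5], [0, 1, 2, 2, 2, 3, 5], [0, 5], [1, 2, 4], [0, 0, 0, 0, 2, 5, 5], [0, 0, 0, 5], [0, 0, 0, 1, 5, 5, 5], [0, 0, 0, 0, 2, 2, 5, 5, 5], [0, 1, 4], [1, 5, 5, 5], [0, 0, 1, 1, 5], [2, 3, 3, 3, 4], [0, 0, 0, 3, 3, 3, 5], [0, 0, 1, 2, 2, 2, 3, 5], [2, 3, 3, 3, 5], [0, 0, 0, 1, 1, 2, 2, 2, 4], [0, 0, 2, 3, 4], [0, 0, 0, 3, 3, 4], [0, 0, 1, 2, 2, 2, 3, 5, 5, 5], [0, 0, 0, 0, 5], [2, 2, 5], [0, 2, 2, 2, 3, 4], [0, 0, 0, 2, 2, 2, 2, 4], [0, 0, 0, 1, 1, 2, 2, 2], [0, 0, 0, 2, 3, 3], [0, 1, 1, 3, 5], [0, 2, 2, 2, 4], [1, 2, 2, 2, 3, 5], [0, 1, 1, 4], [0, 0, 3, 4], [0, 0, 2, 3, 3], [0, 0, 0, 3, 4], [1, 1, 5, 5, 5], [0, 0, 0,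 0], [0, 0, 1, 5], [3, 5, 5, 5], [0, 0, 2, 2, 2, 2, 4], [0, 0, 1, 1, 2, 2, 2, 5, 5, 5], [0, 0, 0, 0, 2, 2, 2, 3], [1, 1, 3, 3, 5], [0, 0, 0, 0, 1, 1, 3], [1, 5, 5], [0, 1, 5], [0, 0, 0, 0, 2, 3, 3, 3, 4], [0, 1, 1, 2, 2, 2, 5, 5], [0, 3, 3, 3, 5], [0, 0, 0, 0, 2, 2, 2, 2, 5], [0, 0, 1, 1], [0, 0, 0, 1, 2, 5], [0, 1, 5, 5, 5], [0, 0, 0, 0, 2, 2, 3, 5], [0, 0, 1, 2, 2, 2, 5, 5], [2, 2, 2, 5, 5, 5], [0, 0, 0, 0, 2, 3, 3, 5, 5, 5], [0, 1, 2, 2, 2, 3, 5, 5, 5], [0, 0, 0, 0, 2, 2, 2], [1, 1, 3, 3, 5, 5], [2, 2, 5, 5], [0, 0, 0, 0, 2, 2, 2, 3, 5, 5, 5], [1, 1, 2, 2, 2, 5], [0, 0, 0, 5, 5, 5], [0, 1, 2, 2, 2, 4], [0, 0, 2, 2, 2, 3, 5], [2, 3, 4], [0, 1, 2], [0, 0, 0, 1, 1, 2, 4], [1, 1, 5], [1, 4],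 [3, 3, 5], [0, 2, 2], [0, 1, 1, 3, 3, 4], [0, 0, 2, 5, 5, 5], [0, 2, 3, 5, 5, 5], [0, 0, 0, 0, 1, 1, 2, 2, 2, 5, 5, 5], [0, 3, 5], [0, 0, 0, 2, 2, 2, 2], [2, 3, 5, 5, 5], [0, 1, 1, 5], [0, 0, 0, 0, 2, 3, 3, 3], [2, 3, 3, 3, 5, 5], [0, 2, 2, 2], [0, 0, 0, 1, 2, 2, 2, 3, 4], [0, 0, 1, 3], [0, 2, 2, 2, 2, 4], [0, 0, 0, 1, 1, 5, 5, 5], [0, 0, 0, 2, 3], [0, 2, 2, 4], [1, 1, 2, 5, 5, 5], [0, 0, 0, 2, 3, 5, 5, 5], [0, 0, 0, 1, 1, 3, 5, 5, 5], [0, 0, 0, 0, 1, 3, 4], [0, 0, 0, 0, 2, 5], [0, 0, 0, 1, 3], [0, 0, 3, 3], [0, 2, 2, 3, 5], [0, 0, 0, 0, 2, 3, 3, 5], [0, 0, 4], [0, 0, 0, 3, 3, 3], [0, 0, 0, 0, 1, 3, 3], [0, 0, 2, 3, 3, 3, 5], [0, 0, 0, 0, 2, 3, 3, 3, 5, 5, 5], [0, 0, 0, 1, 4], [1, 3, 3, 4],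 [2, 2, 2, 5, 5], [0, 0, 1, 1, 5, 5, 5], [0, 0, 2, 5], [0, 3, 3], [2, 2, 3, 5, 5, 5], [0, 0, 0, 0, 1, 1, 3, 3, 4], [0, 0, 0, 1, 1, 3, 3, 4], [0, 0, 0, 1, 1, 4], [0, 0, 0, 2, 3, 5, 5], [0, 0, 1, 1, 3, 5], [0, 0, 2, 2, 2, 3, 5, 5], [1, 3, 3, 5, 5], [0, 0, 1, 3, 3, 5, 5], [0, 1, 2, 5, 5, 5], [3, 3, 4], [0, 2, 2, 3, 3], [0, 0, 0], [0, 0, 1, 1, 3, 5, 5], [1, 1, 2, 5, 5], [0, 2, 2, 3, 3, 5], [2, 3, 3, 5], [0, 0, 0, 2, 2, 5, 5], [0, 0, 0, 0, 3, 3, 5, 5], [0, 0, 0, 2, 2, 2, 5], [0, 0, 0, 0, 1, 2, 2, 2, 3, 5], [0, 1, 1, 2, 5, 5, 5], [0, 0, 0, 0, 2, 2, 2, 5, 5], [0, 0, 3, 3, 4], [0, 0, 0, 0, 1, 2, 2, 2, 3, 4], [3]]), (4257, [[], [1, 1, 1, 1, 2, 2, 2, 2, 3, 3, 4, 4, 5, 5, 5, 5], [4, 4, 5, 5], [4, 5],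 [4, 4, 4, 4, 5, 5, 5, 5], [1, 2, 3], [1, 1, 1, 1, 2, 2, 2, 2, 3, 3, 4, 5, 5, 5], [1, 1, 1, 2, 2, 2, 3, 3, 4, 4, 4, 4, 5, 5], [1, 1, 2, 2, 4, 4, 5, 5], [1, 1, 2, 2, 4, 4, 4, 4, 5, 5, 5, 5], [1, 1, 2, 2, 4, 4, 4, 5, 5, 5], [1, 1, 2, 2], [1, 1, 1, 2, 2, 2, 3, 3, 4, 5, 5, 5, 5], [1, 1, 1, 2, 2, 2, 3, 3, 4, 4], [1, 1, 2, 2, 4, 5], [1, 2, 3, 4, 5], [1, 1, 1, 1, 2, 2, 2, 2, 3, 3, 4, 4, 4, 4, 5], [1, 2, 3, 4, 4, 5, 5], [1, 2, 3, 4, 4, 4, 5, 5, 5], [1, 1, 1, 2, 2, 2, 3, 3, 5, 5, 5], [1, 1, 1, 1, 2, 2, 2, 2, 3, 3, 5, 5], [1, 1, 1, 1, 2, 2, 2, 2, 3, 3, 4, 4, 4], [4, 4, 4, 5, 5, 5], [1, 1, 1, 2, 2, 2, 3, 3, 4, 4, 4, 5], [1, 2, 3, 4, 4, 4, 4, 5, 5, 5, 5]])]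

theorem check_ok : C.check = true := by decide +kernel

abbrev base : List ℕ := Cfsg.Agent.Lib.TC.Iso.allBase [0] Cfsg.Agent.Lib.TC.D.HNL.C0.cl.levs

theorem hrules : chkRules Cfsg.Agent.Lib.TC.D.HNO.Tab.pt C wE base = true := by decide +kernel

theorem hitems : ∀ f < C.items.length, chkItem Cfsg.Agent.Lib.TC.D.HNO.Tab.pt C wE wY base f = true := by decide +kernel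

theorem hlev : chkLev Cfsg.Agent.Lib.TC.D.HNO.Tab.pt wE [] lv = true := by decide +kernel

theorem hwE : ∀ l ∈ wE, ∀ z ∈ l, z < 7 := by decide +kernel

theorem hwY : ∀ l ∈ wY, ∀ z ∈ l, z < 7 := by decide +kernel

theorem hlvn : ∀ t ∈ lv, ∀ u ∈ t.2, ∀ y ∈ u, y < C.n := by decide +kernel

theorem hprod : (lv.map fun t => t.2.length).prod = C.p ^ C.n := by decide +kernel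

end Cfsg.Agent.Lib.Schur.HN.P5
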